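import Cfsg.Prelude.Def_Blocks
import Cfsg.Agent.Blocks.Basic
import Cfsg.Agent.Blocks.Local
import Cfsg.Agent.Blocks.OrbitSum
import Cfsg.Agent.Blocks.PPart
import Cfsg.Agent.Characters.GaloisIrr
import Cfsg.Agent.Characters.Core
import Cfsg.Agent.CharactersDeep.ModCongr
import Cfsg.Agent.S0907
set_option linter.all false

/-!
# The Galois automorphism cubing the 2-power roots of unity, on the principal 2-block

`Cube G k` : `g ^ k = g ^ 3` for 2-elements and `g ^ k = g` for elements of odd order.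
The permutation `sig` : `χ ↦ (g ↦ χ (g ^ k))` of `Irr(G)` has 2-power order, stabilises the principal
2-block, the degrees and the values at elements of odd order.

* `sum_odd_principal` : for `t` of odd order in a group of even order, the sum of the values at `t` of
  the odd-degree members of the principal 2-block is zero modulo `M`;
* `sum_fixed_principal` : the same for the `sig`-fixed ones.
-/

set_option autoImplicit false
open scoped ComplexConjugate
open Cfsg

namespace Cfsg.Agent.H618.Sigma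

universe u
variable {G : Type u} [Group G]

/-- the hypothesis on `k` -/
structure Cube (G : Type u) [Group G] (k : ℕ) : Prop where
  two : ∀ g : G, (∃ j : ℕ, orderOf g = 2 ^ j) → g ^ k = g ^ 3
  odd : ∀ g : G, Odd (orderOf g) → g ^ k = g

variable {k : ℕ}

theorem Cube.subgroup (h : Cube G k) (H : Subgroup G) : Cube H k where
  two g hg := Subtype.ext (by
    have := h.two (g : G) (by simpa [Subgroup.orderOf_coe] using hg)
    simpa using this)
  odd g hg := Subtype.ext (by
    have := h.odd (g : G) (by simpa [Subgroup.orderOf_coe] using hg)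
    simpa using this)

theorem Cube.coprime [Finite G] (h : Cube G k) : k.Coprime (Nat.card G) := by
  by_contra hc
  obtain ⟨p, hp, hpk, hpG⟩ := Nat.Prime.not_coprime_iff_dvd.1 hc
  have := Fact.mk hp
  obtain ⟨g, hg⟩ := exists_prime_orderOf_dvd_card' p hpG
  have h1 : g ^ k = 1 := orderOf_dvd_iff_pow_eq_one.1 (hg ▸ hpk)
  rcases hp.eq_two_or_odd' with rfl | ho
  · have h2 := h.two g ⟨1, by simpa using hg⟩
    have h3 : g ^ 2 = 1 := by rw [← hg]; exact pow_orderOf_eq_one g
    have h4 : g = 1 := by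
      have : g ^ 3 = g := by rw [pow_succ, h3, one_mul]
      rw [← this, ← h2, h1]
    rw [h4, orderOf_one] at hg
    omega
  · have h2 := h.odd g (hg ▸ ho)
    rw [h1] at h2
    rw [← h2, orderOf_one] at hg
    exact hp.one_lt.ne hg

theorem Cube.two_iter (h : Cube G k) (x : G) (hx : ∃ j : ℕ, orderOf x = 2 ^ j) (m : ℕ) :
    x ^ (k ^ m) = x ^ (3 ^ m) := by
  induction m with
  | zero => simp
  | succ m ih =>
    rw [pow_succ, pow_mul, ih, ← pow_mul, mul_comm, pow_mul, h.two x hx, ← pow_mul, pow_succ,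
      mul_comm]

theorem Cube.odd_iter (h : Cube G k) (x : G) (hx : Odd (orderOf x)) (m : ℕ) :
    x ^ (k ^ m) = x := by
  induction m with
  | zero => simp
  | succ m ih => rw [pow_succ, pow_mul, ih, h.odd x hx]

theorem odd_iff {n : ℕ} : Odd n ↔ ¬ 2 ∣ n := by
  rw [← Nat.not_even_iff_odd, even_iff_two_dvd]

theorem exists_decomp [Finite G] (g : G) : ∃ x y : G, x * y = g ∧ Commute x y ∧
    (∃ j : ℕ, orderOf x = 2 ^ j) ∧ Odd (orderOf y) := by
  have : Fact (Nat.Prime 2) := ⟨Nat.prime_two⟩
  obtain ⟨x, y, h1, h2, h3, h4⟩ := Cfsg.Agent.Blocks.PPart.exists_isPPart 2 g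
  exact ⟨x, y, h1, h2, h3, odd_iff.2 h4⟩

theorem Cube.exists_iter [Finite G] (h : Cube G k) : ∃ n : ℕ, ∀ g : G, g ^ (k ^ (2 ^ n)) = g := by
  refine ⟨Nat.card G, fun g => ?_⟩
  obtain ⟨x, y, rfl, hxy, ⟨j, hj⟩, hy⟩ := exists_decomp g
  rw [hxy.mul_pow, h.two_iter x ⟨j, hj⟩, h.odd_iter y hy]
  congr 1
  have hjle : j ≤ Nat.card G := by
    have h1 : orderOf x ≤ Nat.card G := Nat.le_of_dvd Nat.card_pos (orderOf_dvd_natCard x)
    have h2 : j < 2 ^ j := Nat.lt_two_pow_self
    omega
  have h3 : 3 ^ (2 ^ Nat.card G) ≡ 1 [MOD 2 ^ j] := by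
    rcases Nat.eq_zero_or_pos j with rfl | hjpos
    · rw [pow_zero]; exact Nat.modEq_one
    · have h4 := Nat.ModEq.pow_totient (x := 3) (n := 2 ^ j)
        (Nat.Coprime.pow_right _ (by norm_num))
      obtain ⟨i, rfl⟩ : ∃ i, j = i + 1 := ⟨j - 1, by omega⟩
      rw [Nat.totient_prime_pow_succ Nat.prime_two] at h4
      have h5 : (2 : ℕ) ^ Nat.card G = 2 ^ i * (2 - 1) * 2 ^ (Nat.card G - i) := by
        rw [show (2 : ℕ) - 1 = 1 from rfl, mul_one, ← pow_add]
        congr 1
        omega
      rw [h5, pow_mul]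
      simpa using h4.pow (2 ^ (Nat.card G - i))
  have h6 : x ^ (3 ^ (2 ^ Nat.card G)) = x ^ 1 := pow_eq_pow_iff_modEq.2 (by rw [hj]; exact h3)
  rw [h6, pow_one]

/-- The action of the cubing automorphism on the irreducible characters. -/
noncomputable def sig [Finite G] (h : Cube G k) (χ : IrrCharacter G) : IrrCharacter G :=
  ⟨fun g => (χ : G → ℂ) (g ^ k), Cfsg.Agent.Characters.GaloisIrr.isIrr_pow h.coprime χ.2⟩

theorem sig_apply [Finite G] (h : Cube G k) (χ : IrrCharacter G) (g : G) :
    (sig h χ : G → ℂ) g = (χ : G → ℂ) (g ^ k) := rfl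

theorem sig_iter [Finite G] (h : Cube G k) (χ : IrrCharacter G) (m : ℕ) (g : G) :
    ((sig h)^[m] χ : G → ℂ) g = (χ : G → ℂ) (g ^ (k ^ m)) := by
  induction m generalizing χ with
  | zero => simp
  | succ m ih =>
    rw [Function.iterate_succ_apply, ih, sig_apply, ← pow_mul, pow_succ]

theorem sig_odd [Finite G] (h : Cube G k) (χ : IrrCharacter G) {g : G} (hg : Odd (orderOf g)) :
    (sig h χ : G → ℂ) g = (χ : G → ℂ) g := by
  rw [sig_apply, h.odd g hg]

theorem sig_eq_iff [Finite G] (h : Cube G k) (χ : IrrCharacter G) :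
    sig h χ = χ ↔ ∀ g : G, (χ : G → ℂ) (g ^ k) = (χ : G → ℂ) g := by
  constructor
  · intro e g
    rw [← sig_apply h, e]
  · intro e
    exact Subtype.ext (funext e)

theorem charDegree_sig [Finite G] (h : Cube G k) (χ : IrrCharacter G) :
    charDegree (sig h χ : G → ℂ) = charDegree (χ : G → ℂ) := by
  unfold charDegree
  rw [sig_apply, one_pow]

theorem centralizer_pow [Finite G] (h : Cube G k) (g : G) :
    Subgroup.centralizer ({g ^ k} : Set G) = Subgroup.centralizer ({g} : Set G) := by
  obtain ⟨n, hn⟩ := h.exists_iter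
  ext x
  rw [Subgroup.mem_centralizer_singleton_iff, Subgroup.mem_centralizer_singleton_iff]
  constructor
  · intro hx
    have h1 : Commute (g ^ k) x := hx.symm
    have h2 := h1.pow_left (k ^ (2 ^ n - 1))
    rw [← pow_mul, ← pow_succ', Nat.sub_add_cancel Nat.one_le_two_pow, hn] at h2
    exact h2.symm.eq
  · intro hx
    have h1 : Commute g x := hx.symm
    exact (h1.pow_left k).symm.eq

theorem sig_mem_principalBlock [Finite G] (h : Cube G k) {M : Ideal AlgInt} {χ : IrrCharacter G}
    (hχ : χ ∈ principalBlock M G) : sig h χ ∈ principalBlock M G := by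
  intro g
  have h1 := hχ (g ^ k)
  have h2 : centralChar (fun _ : G => (1 : ℂ)) (g ^ k) - centralChar (χ : G → ℂ) (g ^ k) =
      centralChar (fun _ : G => (1 : ℂ)) g - centralChar (sig h χ : G → ℂ) g := by
    unfold centralChar
    rw [centralizer_pow h, sig_apply, sig_apply, one_pow]
  rwa [h2] at h1

/-! ### the odd degree members of the principal block -/

/-- The odd-degree members of the principal 2-block. -/
abbrev OddB (M : Ideal AlgInt) (G : Type u) [Group G] : Type u :=
  {χ : IrrCharacter G // χ ∈ principalBlock M G ∧ Odd (charDegree (χ : G → ℂ))}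

instance finite_oddB (M : Ideal AlgInt) (G : Type u) [Group G] [Finite G] : Finite (OddB M G) := by
  have := Cfsg.Agent.Characters.Core.finite_irr (G := G)
  infer_instance

theorem isPBlock_principal (M : Ideal AlgInt) : IsPBlock M (principalBlock M G) :=
  ⟨⟨fun _ => 1, Cfsg.Agent.Blocks.Basic.isIrrCharacter_one⟩, rfl⟩

theorem memLocalRing_irr {M : Ideal AlgInt} [M.IsPrime] [Finite G] (χ : IrrCharacter G) (g : G) :
    MemLocalRing M ((χ : G → ℂ) g) :=
  Cfsg.Agent.Blocks.Local.memLocalRing_of_isIntegral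
    (Cfsg.Agent.Characters.GaloisBasic.isIntegral_apply
      (Cfsg.Agent.Blocks.Basic.irr_isCharacter χ.2) g)

open Cfsg.Agent.Blocks.Local in
/-- The value at a 2-element is congruent to the degree. -/
theorem redC_two_element {M : Ideal AlgInt} [M.IsPrime] (hM : IsPModular 2 M) [Finite G]
    (χ : IrrCharacter G) {u : G} (hu : ∃ j : ℕ, orderOf u = 2 ^ j) :
    redC M ((χ : G → ℂ) u) = (charDegree (χ : G → ℂ) : ResField M) := by
  have : Fact (Nat.Prime 2) := ⟨Nat.prime_two⟩
  have h1 := Cfsg.Agent.CharactersDeep.ModCongr.memLocalIdeal_character_sub hM χ.2 u u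
    (Cfsg.Agent.Blocks.PPart.isPPart_of_isPGroup hu)
  rw [inv_mul_cancel, ← redC_eq_iff (memLocalRing_irr χ u) (memLocalRing_irr χ 1)] at h1
  rw [h1, Cfsg.Agent.Blocks.Basic.irr_one_eq_charDegree χ.2, redC_natCast]

open Cfsg.Agent.Blocks.Local in
/-- The value at `g` is congruent to the value at the odd part of `g`. -/
theorem redC_odd_part {M : Ideal AlgInt} [M.IsPrime] (hM : IsPModular 2 M) [Finite G]
    (χ : IrrCharacter G) {x y : G} (hxy : Commute x y) (hx : ∃ j : ℕ, orderOf x = 2 ^ j)
    (hy : Odd (orderOf y)) :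
    redC M ((χ : G → ℂ) (x * y)) = redC M ((χ : G → ℂ) y) := by
  have : Fact (Nat.Prime 2) := ⟨Nat.prime_two⟩
  have h1 := Cfsg.Agent.CharactersDeep.ModCongr.memLocalIdeal_character_sub hM χ.2 (x * y) x
    (Cfsg.Agent.Blocks.PPart.isPPart_mul hxy hx (odd_iff.1 hy))
  rw [inv_mul_cancel_left, ← redC_eq_iff (memLocalRing_irr χ _) (memLocalRing_irr χ _)] at h1
  exact h1

open Cfsg.Agent.Blocks.Local in
/-- The odd-degree members of the principal 2-block of a group of even order: the sum of the values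
at an element of odd order is zero modulo `M`. -/
theorem sum_odd_principal {M : Ideal AlgInt} [M.IsPrime] (hM : IsPModular 2 M) [Finite G]
    [Fintype (OddB M G)] (hev : Even (Nat.card G)) {t : G} (ht : Odd (orderOf t)) :
    ∑ χ : OddB M G, redC M ((χ.1 : G → ℂ) t) = 0 := by
  classical
  have : Fact (Nat.Prime 2) := ⟨Nat.prime_two⟩
  have : Finite (IrrCharacter G) := Cfsg.Agent.Characters.Core.finite_irr
  have : Fintype (IrrCharacter G) := Fintype.ofFinite _
  obtain ⟨u, hu⟩ := exists_prime_orderOf_dvd_card' 2 (even_iff_two_dvd.1 hev)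
  have h0 := Cfsg.Agent.S0907.result 2 M hM (principalBlock M G) (isPBlock_principal M) t u
    (odd_iff.1 ht) (by rw [hu])
  have hu' : ∃ j : ℕ, orderOf u = 2 ^ j := ⟨1, by rw [hu, pow_one]⟩
  have hinv : u⁻¹ = u := by
    rw [inv_eq_iff_mul_eq_one, ← sq, ← hu, pow_orderOf_eq_one]
  rw [finsum_mem_eq_finite_toFinset_sum _ (Set.toFinite _)] at h0
  obtain ⟨S, hS⟩ : ∃ S : Finset (IrrCharacter G),
    S = (Set.toFinite (principalBlock M G)).toFinset := ⟨_, rfl⟩
  have hSm : ∀ χ : IrrCharacter G, χ ∈ S ↔ χ ∈ principalBlock M G := by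
    intro χ
    rw [hS, Set.Finite.mem_toFinset]
  rw [← hS] at h0
  have h1 : S.sum (fun χ : IrrCharacter G =>
      redC M ((χ : G → ℂ) t) * (charDegree (χ : G → ℂ) : ResField M)) = 0 := by
    rw [← redC_zero (M := M), ← h0, redC_sum]
    · refine Finset.sum_congr rfl fun χ _ => ?_
      rw [← Cfsg.Agent.Characters.Core.isCharacter_apply_inv
        (Cfsg.Agent.Blocks.Basic.irr_isCharacter χ.2), hinv,
        redC_mul (memLocalRing_irr χ _) (memLocalRing_irr χ _), redC_two_element hM χ hu']
    · intro χ _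
      rw [← Cfsg.Agent.Characters.Core.isCharacter_apply_inv
        (Cfsg.Agent.Blocks.Basic.irr_isCharacter χ.2)]
      exact memLocalRing_mul (memLocalRing_irr χ _) (memLocalRing_irr χ _)
  have hchar := charP_resField hM
  have h2 : (S.filter (fun χ : IrrCharacter G => Odd (charDegree (χ : G → ℂ)))).sum
      (fun χ : IrrCharacter G => redC M ((χ : G → ℂ) t)) = 0 := by
    rw [Finset.sum_filter]
    refine Eq.trans ?_ h1
    refine Finset.sum_congr rfl fun χ _ => ?_
    split_ifs with ho
    · rw [show (charDegree (χ : G → ℂ) : ResField M) = 1 from ?_, mul_one]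
      obtain ⟨m, hm⟩ := ho
      rw [hm]
      push_cast
      rw [show (2 : ResField M) = 0 from by exact_mod_cast CharP.cast_eq_zero (ResField M) 2]
      ring
    · rw [show (charDegree (χ : G → ℂ) : ResField M) = 0 from ?_, mul_zero]
      rw [Nat.not_odd_iff_even, even_iff_two_dvd] at ho
      exact (CharP.cast_eq_zero_iff (ResField M) 2 _).2 ho
  rw [← h2]
  symm
  refine Finset.sum_subtype _ (fun χ => ?_) (fun χ : IrrCharacter G => redC M ((χ : G → ℂ) t))
  rw [Finset.mem_filter, hSm]

/-- Fixed points of a map of 2-power order, weighted. -/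
theorem sum_fixed_perm {Ω R : Type*} [Fintype Ω] [DecidableEq Ω] [Ring R] [CharP R 2]
    (s : Ω → Ω) (n : ℕ) (hs : ∀ ω, s^[2 ^ n] ω = ω) (f : Ω → R) (hf : ∀ ω, f (s ω) = f ω) :
    ∑ ω, f ω = ∑ ω with s ω = ω, f ω := by
  classical
  have : Fact (Nat.Prime 2) := ⟨Nat.prime_two⟩
  have key : ∀ a : R, ((Finset.univ.filter fun ω : Ω => f ω = a).card : R) =
      ((Finset.univ.filter fun ω : Ω => s ω = ω ∧ f ω = a).card : R) := by
    intro a
    let Y := {ω : Ω // f ω = a}
    let s' : Function.End Y := fun y => ⟨s y, by rw [hf]; exact y.2⟩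
    have hit : ∀ (m : ℕ) (y : Y), ((s' ^ m) y : Ω) = s^[m] (y : Ω) := by
      intro m
      induction m with
      | zero => intro y; rfl
      | succ m ih =>
        intro y
        rw [pow_succ, Function.iterate_succ_apply]
        exact ih (s' y)
    have hs' : s' ^ 2 ^ n = 1 := by
      funext y
      apply Subtype.ext
      rw [hit, hs]
      rfl
    have h1 := Equiv.Perm.card_fixedPoints_modEq hs'
    have h2 : Fintype.card Y = (Finset.univ.filter fun ω : Ω => f ω = a).card :=
      Fintype.card_subtype _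
    have h3 : Fintype.card (Function.fixedPoints s') =
        (Finset.univ.filter fun ω : Ω => s ω = ω ∧ f ω = a).card := by
      rw [← Fintype.card_subtype]
      refine Fintype.card_congr ⟨fun y => ⟨(y : Y), ?_, y.1.2⟩, fun ω => ⟨⟨ω, ω.2.2⟩, ?_⟩,
        fun _ => rfl, fun _ => rfl⟩
      · exact congrArg (Subtype.val) y.2
      · exact Subtype.ext ω.2.1
    rw [h2, h3] at h1
    exact (CharP.natCast_eq_natCast R 2).2 h1
  have e1 : ∑ ω, f ω = ∑ a ∈ Finset.univ.image f,
      ((Finset.univ.filter fun ω : Ω => f ω = a).card : R) * a := by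
    rw [← Finset.sum_fiberwise_of_maps_to (s := Finset.univ) (t := Finset.univ.image f) (g := f)
      (fun x hx => Finset.mem_image_of_mem _ hx)]
    refine Finset.sum_congr rfl fun a _ => ?_
    rw [Finset.sum_congr rfl (g := fun _ => a) (fun x hx => (Finset.mem_filter.1 hx).2),
      Finset.sum_const, nsmul_eq_mul]
  have e2 : ∑ ω with s ω = ω, f ω =
      ∑ a ∈ Finset.univ.image f, ((Finset.univ.filter fun ω : Ω =>
        s ω = ω ∧ f ω = a).card : R) * a := by
    rw [← Finset.sum_fiberwise_of_maps_to (s := Finset.univ.filter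
      (fun ω => s ω = ω)) (t := Finset.univ.image f) (g := f)
      (fun x hx => Finset.mem_image_of_mem _ (Finset.mem_univ x))]
    refine Finset.sum_congr rfl fun a _ => ?_
    rw [Finset.sum_congr rfl (g := fun _ => a) (fun x hx => (Finset.mem_filter.1 hx).2),
      Finset.sum_const, nsmul_eq_mul, Finset.filter_filter]
  rw [e1, e2]
  exact Finset.sum_congr rfl fun a _ => by rw [key]

/-- Fixed points of a map of 2-power order: the number of points. -/
theorem card_fixed_perm {Ω : Type*} [Finite Ω] (s : Ω → Ω) (n : ℕ)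
    (hs : ∀ ω, s^[2 ^ n] ω = ω) : Nat.card Ω ≡ Nat.card {ω // s ω = ω} [MOD 2] := by
  classical
  have := Fintype.ofFinite Ω
  have h := sum_fixed_perm (R := ZMod 2) s n hs (fun _ => 1) (fun _ => rfl)
  rw [← ZMod.natCast_eq_natCast_iff]
  simpa [Fintype.card_subtype, Nat.card_eq_fintype_card] using h

/-- The cubing automorphism on the odd-degree members of the principal 2-block. -/
noncomputable def sigB [Finite G] (h : Cube G k) (M : Ideal AlgInt) (χ : OddB M G) : OddB M G :=
  ⟨sig h χ.1, sig_mem_principalBlock h χ.2.1, by rw [charDegree_sig]; exact χ.2.2⟩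

theorem sigB_coe [Finite G] (h : Cube G k) (M : Ideal AlgInt) (χ : OddB M G) :
    (sigB h M χ).1 = sig h χ.1 := rfl

theorem sigB_iter [Finite G] (h : Cube G k) (M : Ideal AlgInt) (χ : OddB M G) (m : ℕ) :
    ((sigB h M)^[m] χ).1 = (sig h)^[m] χ.1 := by
  induction m generalizing χ with
  | zero => rfl
  | succ m ih => rw [Function.iterate_succ_apply, Function.iterate_succ_apply, ih, sigB_coe]

theorem exists_sigB_iter [Finite G] (h : Cube G k) (M : Ideal AlgInt) :
    ∃ n : ℕ, ∀ χ : OddB M G, (sigB h M)^[2 ^ n] χ = χ := by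
  obtain ⟨n, hn⟩ := h.exists_iter
  refine ⟨n, fun χ => Subtype.ext (Subtype.ext (funext fun g => ?_))⟩
  rw [sigB_iter, sig_iter, hn]

theorem sigB_eq_iff [Finite G] (h : Cube G k) {M : Ideal AlgInt} (χ : OddB M G) :
    sigB h M χ = χ ↔ ∀ g : G, (χ.1 : G → ℂ) (g ^ k) = (χ.1 : G → ℂ) g := by
  rw [← sig_eq_iff h, ← sigB_coe h M, Subtype.ext_iff]

open Cfsg.Agent.Blocks.Local in
/-- The fixed odd-degree members of the principal 2-block of a group of even order: the sum of the
values at an element of odd order is zero modulo `M`. -/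
theorem sum_fixed_principal {M : Ideal AlgInt} [M.IsPrime] (hM : IsPModular 2 M) [Finite G]
    (h : Cube G k) [Fintype (OddB M G)] [DecidableEq (OddB M G)] (hev : Even (Nat.card G)) {t : G}
    (ht : Odd (orderOf t)) :
    ∑ χ : OddB M G with sigB h M χ = χ, redC M ((χ.1 : G → ℂ) t) = 0 := by
  have hchar := charP_resField hM
  obtain ⟨n, hn⟩ := exists_sigB_iter h M
  rw [← sum_odd_principal hM hev ht, sum_fixed_perm (sigB h M) n hn]
  intro χ
  rw [sigB_coe, sig_odd h χ.1 ht]

/-- The number of odd-degree members of the principal 2-block is even. -/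
theorem even_card_oddB {M : Ideal AlgInt} (hM : IsPModular 2 M) [Finite G]
    (hev : Even (Nat.card G)) : Even (Nat.card (OddB M G)) := by
  classical
  have : M.IsPrime := hM.2.1.isPrime
  have := Fintype.ofFinite (OddB M G)
  have hchar := Cfsg.Agent.Blocks.Local.charP_resField hM
  have h1 := sum_odd_principal hM hev (t := 1) (by rw [orderOf_one]; exact odd_one)
  have h2 : ∀ χ : OddB M G, Cfsg.Agent.Blocks.Local.redC M ((χ.1 : G → ℂ) 1) = 1 := by
    intro χ
    rw [redC_two_element hM χ.1 ⟨0, by simp⟩]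
    obtain ⟨m, hm⟩ := χ.2.2
    rw [hm]
    push_cast
    rw [show (2 : Cfsg.Agent.Blocks.Local.ResField M) = 0 from by
      exact_mod_cast CharP.cast_eq_zero (Cfsg.Agent.Blocks.Local.ResField M) 2]
    ring
  rw [Finset.sum_congr rfl (fun χ _ => h2 χ), Finset.sum_const, nsmul_eq_mul, mul_one,
    Finset.card_univ, ← Nat.card_eq_fintype_card] at h1
  exact even_iff_two_dvd.2 ((CharP.cast_eq_zero_iff _ 2 _).1 h1)

/-- The number of fixed odd-degree members of the principal 2-block is even. -/
theorem even_card_fixed {M : Ideal AlgInt} (hM : IsPModular 2 M) [Finite G] (h : Cube G k)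
    (hev : Even (Nat.card G)) : Even (Nat.card {χ : OddB M G // sigB h M χ = χ}) := by
  obtain ⟨n, hn⟩ := exists_sigB_iter h M
  have h1 := card_fixed_perm (sigB h M) n hn
  have h2 := even_card_oddB hM hev
  rw [even_iff_two_dvd] at h2 ⊢
  exact (Nat.ModEq.dvd_iff h1 (dvd_refl 2)).1 h2

/-- The set of the statements is the set of fixed points. -/
noncomputable def fixedEquiv [Finite G] (h : Cube G k) (M : Ideal AlgInt) :
    {χ : IrrCharacter G // χ ∈ principalBlock M G ∧ Odd (charDegree (χ : G → ℂ)) ∧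
      ∀ g : G, (χ : G → ℂ) (g ^ k) = (χ : G → ℂ) g} ≃ {χ : OddB M G // sigB h M χ = χ} where
  toFun χ := ⟨⟨χ.1, χ.2.1, χ.2.2.1⟩, (sigB_eq_iff h _).2 χ.2.2.2⟩
  invFun χ := ⟨χ.1.1, χ.1.2.1, χ.1.2.2, (sigB_eq_iff h _).1 χ.2⟩
  left_inv _ := rfl
  right_inv _ := rfl

end Cfsg.Agent.H618.Sigma
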