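import Cfsg.Agent.H618.Resid
import Cfsg.Agent.S0135
import Cfsg.Agent.S0191
import Cfsg.Agent.S0913
import Cfsg.Agent.Blocks.PrincipalKernel
import Cfsg.Agent.Blocks.Deflate
import Cfsg.Agent.Lib.FrattiniPGroup
set_option linter.all false

/-!
# Normal 2-complements and the cubing automorphism

* `linear_of_complement`: with a normal 2-complement, odd-degree members of the principal 2-block are
  linear;
* `odd_residual_of_linear`: if all the `sig`-fixed ones are linear, `O²(G)` has odd order;
* `card_fixed_of_complement`: with a normal 2-complement the number of the `sig`-fixed odd-degree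
  members of the principal 2-block is the index of the Frattini subgroup of a Sylow 2-subgroup;
* `exists_third`: if there is no third `sig`-fixed odd-degree member, they are all linear.
-/

set_option autoImplicit false
open scoped ComplexConjugate commutatorElement
open Cfsg Cfsg.Agent.H618.Sigma Cfsg.Agent.H618.Resid

namespace Cfsg.Agent.H618.Complement

universe u
variable {G : Type u} [Group G] {k : ℕ}

theorem apply_eq_of_complement {M : Ideal AlgInt} (hM : IsPModular 2 M) [Finite G]
    (A : Subgroup G) [A.Normal] (hA : Odd (Nat.card A)) {χ : IrrCharacter G}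
    (hχ : χ ∈ principalBlock M G) {a : G} (ha : a ∈ A) : (χ : G → ℂ) a = (χ : G → ℂ) 1 := by
  have := fact_two
  have := Fintype.ofFinite G
  exact Cfsg.Agent.Blocks.PrincipalKernel.principalBlock_apply_eq hM (odd_iff.1 hA) hχ ha

theorem linear_of_complement {M : Ideal AlgInt} (hM : IsPModular 2 M) [Finite G]
    (A : Subgroup G) [A.Normal] (hA : Odd (Nat.card A)) (hidx : ∃ j : ℕ, A.index = 2 ^ j)
    {χ : IrrCharacter G} (hχ : χ ∈ principalBlock M G) (hodd : Odd (charDegree (χ : G → ℂ))) :
    charDegree (χ : G → ℂ) = 1 := by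
  have := Fintype.ofFinite A
  obtain ⟨χ', hχ'⟩ := Cfsg.Agent.Blocks.Deflate.exists_deflation A (χ : G → ℂ) χ.2 (by
    rw [Finset.sum_congr rfl (fun a _ => apply_eq_of_complement hM A hA hχ a.2),
      Finset.sum_const, Finset.card_univ, nsmul_eq_mul]
    exact mul_ne_zero (by exact_mod_cast Fintype.card_ne_zero)
      (Cfsg.Agent.Blocks.Basic.irr_one_ne_zero χ.2))
  obtain ⟨n, ρ, hρ, hρ'⟩ := χ'.2
  have h1 := Cfsg.Agent.S0135.result ρ
  rw [Module.finrank_fin_fun] at h1
  have h2 : charDegree (χ : G → ℂ) = n := by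
    apply Cfsg.Agent.Blocks.Basic.charDegree_of_eq
    rw [hχ', Function.comp_apply, QuotientGroup.mk_one, ← hρ', Representation.char_one,
      Module.finrank_fin_fun]
  rw [h2] at hodd ⊢
  obtain ⟨j, hj⟩ := hidx
  have h3 : n ∣ 2 ^ j := by rw [← hj]; exact h1
  exact Nat.eq_one_of_dvd_coprimes (Nat.Coprime.pow_left j (Nat.coprime_two_left.2 hodd)) h3
    (dvd_refl n)

/-- Complex conjugation on the invariant fixed characters. -/
noncomputable def conjInv [Finite G] (M : Ideal AlgInt) (N : Subgroup G) [N.Normal] (k : ℕ)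
    (θ : InvB M N k) : InvB M N k :=
  ⟨⟨conjI θ.1.1, conjI_mem_principalBlock θ.1.2.1, by rw [charDegree_conjI]; exact θ.1.2.2⟩, by
    refine ⟨fun g => Subtype.ext (funext fun x => ?_), fun x => ?_⟩
    · rw [Cfsg.Agent.Blocks.Covering.conjIrr_apply, conjI_apply, conjI_apply,
        ← Cfsg.Agent.Blocks.Covering.conjIrr_apply, θ.2.1 g]
    · show (conjI θ.1.1 : N → ℂ) (x ^ k) = (conjI θ.1.1 : N → ℂ) x
      rw [conjI_apply, conjI_apply, θ.2.2 x]⟩

theorem conjInv_conjInv [Finite G] (M : Ideal AlgInt) (N : Subgroup G) [N.Normal] (k : ℕ)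
    (θ : InvB M N k) : conjInv M N k (conjInv M N k θ) = θ := by
  apply Subtype.ext
  apply Subtype.ext
  apply Subtype.ext
  funext x
  show conj (conj ((θ.1.1 : N → ℂ) x)) = _
  rw [Complex.conj_conj]

/-- If every `sig`-fixed odd-degree member of the principal 2-block of `G` is linear, then `O²(G)` has
odd order. -/
theorem odd_residual_of_linear {M : Ideal AlgInt} (hM : IsPModular 2 M) [Finite G]
    (h : Cube G k)
    (hlin : ∀ χ ∈ principalBlock M G, Odd (charDegree (χ : G → ℂ)) →
      (∀ g : G, (χ : G → ℂ) (g ^ k) = (χ : G → ℂ) g) → charDegree (χ : G → ℂ) = 1) :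
    Odd (Nat.card (pResidual 2 G)) := by
  classical
  have := fact_two
  have hAn : (pResidual 2 G).Normal := Cfsg.Agent.Transfer.Residual.pResidual_normal 2
  by_contra hodd
  rw [Nat.not_odd_iff_even] at hodd
  have hne : Nonempty (Sylow 2 G) := inferInstance
  obtain ⟨P⟩ := hne
  have hev := even_card_inv hM h (pResidual 2 G) P
    (Cfsg.Agent.Transfer.Residual.pResidual_sup_sylow P) hodd
  have h1 := card_fixed_perm (conjInv M (pResidual 2 G) k) 1 (fun θ => by
    show conjInv M (pResidual 2 G) k (conjInv M (pResidual 2 G) k θ) = θ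
    exact conjInv_conjInv M _ k θ)
  -- the only fixed point is the trivial character
  have hfix : ∀ θ : InvB M (pResidual 2 G) k, conjInv M (pResidual 2 G) k θ = θ →
      ∀ x : pResidual 2 G, (θ.1.1 : pResidual 2 G → ℂ) x = 1 := by
    intro θ hθ
    obtain ⟨χ, hχ1, hχ2, hχ3, hχ4⟩ := exists_canonical hM h (pResidual 2 G) rfl θ
    have h2 := hlin χ hχ1 hχ2 hχ3
    have h3 : (θ.1.1 : pResidual 2 G → ℂ) 1 = 1 := by
      have h4 := hχ4 1
      rw [← h4]
      show (χ : G → ℂ) 1 = 1
      rw [Cfsg.Agent.Blocks.Basic.irr_one_eq_charDegree χ.2, h2, Nat.cast_one]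
    obtain ⟨f, hf⟩ := Cfsg.Agent.Characters.Linear.exists_hom_of_isIrrCharacter θ.1.1.2 h3
    have h5 : ∀ x, f x ^ 2 = 1 := by
      intro x
      have h6 := congrArg (fun ψ : InvB M (pResidual 2 G) k => (ψ.1.1 : pResidual 2 G → ℂ) x) hθ
      have h7 : (conjI θ.1.1 : pResidual 2 G → ℂ) x = (θ.1.1 : pResidual 2 G → ℂ) x := h6
      rw [conjI_apply', hf] at h7
      have h8 : f x⁻¹ = f x := Units.ext h7
      rw [map_inv] at h8
      rw [sq]
      nth_rewrite 1 [← h8]
      exact inv_mul_cancel _
    intro x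
    rw [hf]
    show ((f x : ℂˣ) : ℂ) = 1
    rw [hom_eq_one_of_sq f h5 x, Units.val_one]
  have h2 : Nat.card {θ : InvB M (pResidual 2 G) k // conjInv M (pResidual 2 G) k θ = θ} = 1 := by
    have hsub : Subsingleton {θ : InvB M (pResidual 2 G) k // conjInv M (pResidual 2 G) k θ = θ} := by
      refine ⟨fun a b => Subtype.ext (Subtype.ext (Subtype.ext (Subtype.ext (funext fun x => ?_))))⟩
      rw [hfix a.1 a.2 x, hfix b.1 b.2 x]
    have hMp : M.IsPrime := hM.2.1.isPrime
    let one : InvB M (pResidual 2 G) k :=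
      ⟨⟨⟨fun _ => 1, Cfsg.Agent.Blocks.Basic.isIrrCharacter_one⟩,
        Cfsg.Agent.Blocks.Basic.sameBlock_refl _, by
          unfold charDegree
          simp⟩, fun g => rfl, fun x => rfl⟩
    have hone : conjInv M (pResidual 2 G) k one = one := by
      apply Subtype.ext
      apply Subtype.ext
      apply Subtype.ext
      funext x
      show conj (1 : ℂ) = 1
      exact map_one _
    have hne : Nonempty {θ : InvB M (pResidual 2 G) k // conjInv M (pResidual 2 G) k θ = θ} :=
      ⟨⟨one, hone⟩⟩
    exact Nat.card_eq_one_iff_unique.2 ⟨hsub, hne⟩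
  rw [h2] at h1
  rw [even_iff_two_dvd] at hev
  have h3 := (Nat.ModEq.dvd_iff h1 (dvd_refl 2)).1 hev
  omega

/-- **S4549.** -/
theorem normal_complement_iff {M : Ideal AlgInt} (hM : IsPModular 2 M) [Finite G]
    (h : Cube G k) : HasNormalPComplement 2 G ↔
      ∀ χ ∈ principalBlock M G, Odd (charDegree (χ : G → ℂ)) →
      (∀ g : G, (χ : G → ℂ) (g ^ k) = (χ : G → ℂ) g) → charDegree (χ : G → ℂ) = 1 := by
  have := fact_two
  have hAn : (pResidual 2 G).Normal := Cfsg.Agent.Transfer.Residual.pResidual_normal 2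
  rw [Cfsg.Agent.Transfer.NormalPComplement.hasNormalPComplement_iff_coprime,
    Nat.coprime_two_right]
  constructor
  · intro hodd χ hχ hd _
    exact linear_of_complement hM (pResidual 2 G) hodd
      (Cfsg.Agent.Transfer.Residual.exists_index_pResidual_eq_pow 2) hχ hd
  · exact odd_residual_of_linear hM h

/-! ### the number of fixed characters with a normal complement -/

/-- Homomorphisms with square one, on a group and on the Frattini quotient of a Sylow subgroup. -/
theorem card_hom_sq (P : Type u) [Group P] [Finite P] (hP : IsPGroup 2 P) :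
    Nat.card {f : P →* ℂˣ // ∀ x, f x ^ 2 = 1} = (frattini P).index := by
  have := fact_two
  have hn : (frattini P).Normal := inferInstance
  let V := P ⧸ frattini P
  have hsq : ∀ v : V, v ^ 2 = 1 := by
    intro v
    obtain ⟨x, rfl⟩ := QuotientGroup.mk_surjective v
    rw [← QuotientGroup.mk_pow, QuotientGroup.eq_one_iff]
    exact Cfsg.Agent.Lib.FrattiniPGroup.pow_mem_frattini hP x
  let _ : CommGroup V :=
    { (inferInstance : Group V) with
      mul_comm := fun a b => by
        obtain ⟨x, rfl⟩ := QuotientGroup.mk_surjective a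
        obtain ⟨y, rfl⟩ := QuotientGroup.mk_surjective b
        have h1 := Cfsg.Agent.Lib.FrattiniPGroup.commutator_mem_frattini hP x y
        have h2 := (QuotientGroup.eq_one_iff (N := frattini P) ⁅x, y⁆).2 h1
        have h3 : (QuotientGroup.mk ⁅x, y⁆ : V) =
          ⁅(QuotientGroup.mk x : V), (QuotientGroup.mk y : V)⁆ :=
          map_commutatorElement (QuotientGroup.mk' (frattini P)) x y
        rw [h3] at h2
        exact commutatorElement_eq_one_iff_mul_comm.1 h2 }
  have hcard : Nat.card (V →* ℂˣ) = Nat.card V :=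
    CommGroup.card_monoidHom_of_hasEnoughRootsOfUnity V ℂ
  have hidx : (frattini P).index = Nat.card V := rfl
  rw [hidx, ← hcard]
  refine Nat.card_congr
    { toFun := fun f => QuotientGroup.lift (frattini P) f.1 ?_
      invFun := fun φ => ⟨φ.comp (QuotientGroup.mk' (frattini P)), ?_⟩
      left_inv := fun f => ?_
      right_inv := fun φ => ?_ }
  · have hker : frattini P ≤ f.1.ker := by
      refine Cfsg.Agent.Lib.FrattiniPGroup.frattini_le (p := 2) f.1.ker ?_ ?_
      · intro x y
        rw [MonoidHom.mem_ker, map_commutatorElement]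
        exact commutatorElement_eq_one_iff_mul_comm.2 (mul_comm _ _)
      · intro x
        rw [MonoidHom.mem_ker, map_pow, f.2 x]
    intro x hx
    exact hker hx
  · intro x
    show φ (QuotientGroup.mk x) ^ 2 = 1
    rw [← map_pow, hsq, map_one]
  · apply Subtype.ext
    ext x
    rfl
  · ext x
    rfl

/-- `f (g ^ k) = f g` for homomorphisms with square one. -/
theorem hom_pow [Finite G] (h : Cube G k) (f : G →* ℂˣ) (hf : ∀ x, f x ^ 2 = 1) (g : G) :
    f (g ^ k) = f g := by
  obtain ⟨x, y, rfl, hxy, hx, hy⟩ := exists_decomp g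
  rw [hxy.mul_pow, h.two x hx, h.odd y hy, map_mul, map_mul, map_pow, pow_succ, hf x, one_mul]

/-- The number of the fixed odd-degree members of the principal 2-block of a group with a normal
2-complement. -/
theorem card_fixed_of_complement {M : Ideal AlgInt} (hM : IsPModular 2 M) [Finite G]
    (h : Cube G k) (hc : HasNormalPComplement 2 G) (P : Sylow 2 G) :
    Nat.card {χ : IrrCharacter G // χ ∈ principalBlock M G ∧ Odd (charDegree (χ : G → ℂ)) ∧
      ∀ g : G, (χ : G → ℂ) (g ^ k) = (χ : G → ℂ) g} = (frattini (P : Subgroup G)).index := by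
  classical
  have := fact_two
  have := Fintype.ofFinite G
  have hMp : M.IsPrime := hM.2.1.isPrime
  have hAn : (pResidual 2 G).Normal := Cfsg.Agent.Transfer.Residual.pResidual_normal 2
  have hodd : Odd (Nat.card (pResidual 2 G)) := by
    rw [← Nat.coprime_two_right]
    exact Cfsg.Agent.Transfer.NormalPComplement.hasNormalPComplement_iff_coprime.1 hc
  obtain ⟨j, hj⟩ := Cfsg.Agent.Transfer.Residual.exists_index_pResidual_eq_pow (G := G) 2
  have hcomp := Cfsg.Agent.Transfer.NormalPComplement.isComplement'_pResidual hc P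
  have hcomp' : (P : Subgroup G).IsComplement' (pResidual 2 G) := hcomp.symm
  have hblock := Cfsg.Agent.Blocks.PrincipalKernel.principalBlock_eq_of_normal_complement hM
    (Cfsg.Agent.S0913.result 2 M hM _ (isPBlock_principal M) 1) (pResidual 2 G)
    (odd_iff.1 hodd) hj
  have hmemA : ∀ y : G, Odd (orderOf y) → y ∈ pResidual 2 G := fun y hy =>
    Cfsg.Agent.Transfer.Residual.mem_pResidual_of_coprime (Nat.coprime_two_right.2 hy)
  rw [← card_hom_sq (P : Subgroup G) P.isPGroup']
  -- homomorphisms on `G`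
  have hres : ∀ f : G →* ℂˣ, (∀ x, f x ^ 2 = 1) → ∀ a ∈ pResidual 2 G, f a = 1 := by
    intro f hf a ha
    exact hom_eq_one_of_sq (f.comp (pResidual 2 G).subtype) (fun x => hf x) ⟨a, ha⟩
  have e1 : Nat.card {f : G →* ℂˣ // ∀ x, f x ^ 2 = 1} =
      Nat.card {f : (P : Subgroup G) →* ℂˣ // ∀ x, f x ^ 2 = 1} := by
    let q : {f : G →* ℂˣ // ∀ x, f x ^ 2 = 1} →
        {f : (P : Subgroup G) →* ℂˣ // ∀ x, f x ^ 2 = 1} :=
      fun f => ⟨f.1.comp (P : Subgroup G).subtype, fun x => f.2 x⟩
    refine Nat.card_congr (Equiv.ofBijective q ⟨?_, ?_⟩)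
    · intro f f' hff
      apply Subtype.ext
      have hP : ∀ x ∈ (P : Subgroup G), f.1 x = f'.1 x := by
        intro x hx
        have h1 := congrArg Subtype.val hff
        exact DFunLike.congr_fun h1 (⟨x, hx⟩ : (P : Subgroup G))
      have h2 : (⊤ : Subgroup G) ≤ MonoidHom.eqLocus f.1 f'.1 := by
        rw [← Cfsg.Agent.Transfer.Residual.pResidual_sup_sylow P, sup_le_iff]
        refine ⟨fun a ha => ?_, fun x hx => hP x hx⟩
        show f.1 a = f'.1 a
        rw [hres f.1 f.2 a ha, hres f'.1 f'.2 a ha]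
      exact MonoidHom.ext fun x => h2 (Subgroup.mem_top x)
    · intro φ
      refine ⟨⟨(φ.1.comp (Subgroup.IsComplement'.QuotientMulEquiv hcomp').toMonoidHom).comp
        (QuotientGroup.mk' (pResidual 2 G)), fun x => φ.2 _⟩, ?_⟩
      apply Subtype.ext
      ext x
      have h3 : (Subgroup.IsComplement'.QuotientMulEquiv hcomp')
          (QuotientGroup.mk' (pResidual 2 G) (x : G)) = x := by
        rw [← MulEquiv.eq_symm_apply]
        rfl
      show ((φ.1 ((Subgroup.IsComplement'.QuotientMulEquiv hcomp')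
          (QuotientGroup.mk' (pResidual 2 G) (x : G))) : ℂˣ) : ℂ) = _
      rw [h3]
  rw [← e1]
  let q : {f : G →* ℂˣ // ∀ x, f x ^ 2 = 1} →
      {χ : IrrCharacter G // χ ∈ principalBlock M G ∧ Odd (charDegree (χ : G → ℂ)) ∧
      ∀ g : G, (χ : G → ℂ) (g ^ k) = (χ : G → ℂ) g} :=
    fun f => ⟨⟨fun g => (f.1 g : ℂ), Cfsg.Agent.Characters.Linear.isIrrCharacter_hom f.1⟩, by
      rw [hblock]
      intro a ha
      show ((f.1 a : ℂˣ) : ℂ) = ((f.1 1 : ℂˣ) : ℂ)
      rw [hres f.1 f.2 a ha, map_one], by
      unfold charDegree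
      simp, fun g => by
      show ((f.1 (g ^ k) : ℂˣ) : ℂ) = ((f.1 g : ℂˣ) : ℂ)
      rw [hom_pow h f.1 f.2]⟩
  symm
  refine Nat.card_congr (Equiv.ofBijective q ⟨?_, ?_⟩)
  · intro f f' hff
    apply Subtype.ext
    refine MonoidHom.ext fun g => Units.ext ?_
    have h1 := congrArg (fun χ => ((χ : {χ : IrrCharacter G // χ ∈ principalBlock M G ∧
      Odd (charDegree (χ : G → ℂ)) ∧ ∀ g : G, (χ : G → ℂ) (g ^ k) = (χ : G → ℂ) g}).1 : G → ℂ) g) hff
    exact h1
  · intro χ
    have h1 := linear_of_complement hM (pResidual 2 G) hodd ⟨j, hj⟩ χ.2.1 χ.2.2.1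
    have h2 : (χ.1 : G → ℂ) 1 = 1 := by
      rw [Cfsg.Agent.Blocks.Basic.irr_one_eq_charDegree χ.1.2, h1, Nat.cast_one]
    obtain ⟨f, hf⟩ := Cfsg.Agent.Characters.Linear.exists_hom_of_isIrrCharacter χ.1.2 h2
    have hA : ∀ a ∈ pResidual 2 G, f a = 1 := by
      intro a ha
      have h3 := apply_eq_of_complement hM (pResidual 2 G) hodd χ.2.1 ha
      rw [h2, hf] at h3
      exact Units.ext h3
    have hsq : ∀ g, f g ^ 2 = 1 := by
      intro g
      obtain ⟨x, y, rfl, hxy, hx, hy⟩ := exists_decomp g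
      have h4 := χ.2.2.2 x
      rw [h.two x hx, hf] at h4
      have h5 : f (x ^ 3) = f x := Units.ext h4
      rw [map_pow, pow_succ] at h5
      have h6 : f x ^ 2 = 1 := mul_eq_right.1 h5
      rw [map_mul, mul_pow, h6, hA y (hmemA y hy), one_pow, mul_one]
    exact ⟨⟨f, hsq⟩, Subtype.ext (Subtype.ext (by rw [hf]))⟩

/-! ### the cyclic case -/

/-- If there are exactly two fixed odd-degree members of the principal 2-block, both are linear. -/
theorem linear_of_card_two {M : Ideal AlgInt} (hM : IsPModular 2 M) [Finite G]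
    (h : Cube G k) (hev : Even (Nat.card G))
    (h2 : Nat.card {χ : OddB M G // sigB h M χ = χ} = 2) (χ : IrrCharacter G)
    (hχ : χ ∈ principalBlock M G) (hodd : Odd (charDegree (χ : G → ℂ)))
    (hfix : ∀ g : G, (χ : G → ℂ) (g ^ k) = (χ : G → ℂ) g) : charDegree (χ : G → ℂ) = 1 := by
  classical
  have hMp : M.IsPrime := hM.2.1.isPrime
  have hchar := Cfsg.Agent.Blocks.Local.charP_resField hM
  have := Fintype.ofFinite (OddB M G)
  by_contra hne
  let one : OddB M G := ⟨⟨fun _ => 1, Cfsg.Agent.Blocks.Basic.isIrrCharacter_one⟩,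
    Cfsg.Agent.Blocks.Basic.sameBlock_refl _, by
      unfold charDegree
      simp⟩
  have hone : sigB h M one = one := by
    rw [sigB_eq_iff]
    intro g
    rfl
  let X : OddB M G := ⟨χ, hχ, hodd⟩
  have hX : sigB h M X = X := (sigB_eq_iff h X).2 hfix
  have hX1 : one ≠ X := by
    intro he
    apply hne
    have h3 : (one.1 : G → ℂ) = (χ : G → ℂ) := congrArg (fun Y : OddB M G => (Y.1 : G → ℂ)) he
    rw [← h3]
    unfold charDegree
    show ⌊((1 : ℂ)).re⌋₊ = 1
    simp
  -- the fixed points are `one` and `X`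
  have hset : (Finset.univ.filter fun Y : OddB M G => sigB h M Y = Y) = {one, X} := by
    symm
    apply Finset.eq_of_subset_of_card_le
    · intro Y hY
      rw [Finset.mem_insert, Finset.mem_singleton] at hY
      rw [Finset.mem_filter]
      rcases hY with rfl | rfl
      · exact ⟨Finset.mem_univ _, hone⟩
      · exact ⟨Finset.mem_univ _, hX⟩
    · rw [Finset.card_pair hX1, ← Fintype.card_subtype, ← Nat.card_eq_fintype_card, h2]
  have hval : ∀ g : G, (χ : G → ℂ) g ≠ 0 := by
    intro g hg0
    obtain ⟨x, y, rfl, hxy, hx, hy⟩ := exists_decomp g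
    have h3 := sum_fixed_principal hM h hev hy
    rw [hset, Finset.sum_pair hX1] at h3
    have h4 := redC_odd_part hM χ hxy hx hy
    rw [hg0, Cfsg.Agent.Blocks.Local.redC_zero] at h4
    have h5 : Cfsg.Agent.Blocks.Local.redC M ((X.1 : G → ℂ) y) = 0 := h4.symm
    have h6 : Cfsg.Agent.Blocks.Local.redC M ((one.1 : G → ℂ) y) = 1 :=
      Cfsg.Agent.Blocks.Local.redC_one
    rw [h5, h6, add_zero] at h3
    exact one_ne_zero h3
  obtain ⟨n, ρ, hρ, hρ'⟩ := χ.2
  have hn : charDegree (χ : G → ℂ) = n := by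
    apply Cfsg.Agent.Blocks.Basic.charDegree_of_eq
    rw [← hρ', Representation.char_one, Module.finrank_fin_fun]
  have hpos := Cfsg.Agent.Blocks.Basic.charDegree_pos χ.2
  obtain ⟨g, hg⟩ := Cfsg.Agent.S0191.result ρ (by
    rw [Module.finrank_fin_fun]
    omega)
  exact hval g (by rw [← hρ']; exact hg)

/-- A 2-group whose Frattini subgroup has index two is cyclic. -/
theorem isCyclic_of_frattini {P : Type u} [Group P] [Finite P]
    (h2 : (frattini P).index = 2) : IsCyclic P := by
  have hn : (frattini P).Normal := inferInstance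
  have hc : IsCyclic (P ⧸ frattini P) := by
    have := fact_two
    exact isCyclic_of_prime_card (p := 2) h2
  obtain ⟨v, hv⟩ := hc.exists_generator
  obtain ⟨x, rfl⟩ := QuotientGroup.mk_surjective v
  have h3 : Subgroup.zpowers x ⊔ frattini P = ⊤ := by
    rw [eq_top_iff]
    intro y _
    obtain ⟨m, hm⟩ := Subgroup.mem_zpowers_iff.1 (hv (QuotientGroup.mk y))
    have h4 : (QuotientGroup.mk (x ^ m) : P ⧸ frattini P) = QuotientGroup.mk y := hm
    rw [QuotientGroup.eq] at h4
    have h5 : y = x ^ m * ((x ^ m)⁻¹ * y) := by group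
    rw [h5]
    exact Subgroup.mul_mem_sup (Subgroup.zpow_mem_zpowers x m) h4
  have h4 := frattini_nongenerating h3
  exact ⟨x, fun y => by
    have : y ∈ Subgroup.zpowers x := by rw [h4]; exact Subgroup.mem_top y
    exact this⟩

/-- The Frattini subgroup of a cyclic nontrivial 2-group has index two. -/
theorem frattini_index_of_isCyclic {P : Type u} [Group P] [Finite P] (hP : IsPGroup 2 P)
    (hc : IsCyclic P) (hev : 2 ∣ Nat.card P) : (frattini P).index = 2 := by
  have := fact_two
  have hn : (frattini P).Normal := inferInstance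
  obtain ⟨x, hx⟩ := hc.exists_generator
  have hne : (frattini P).index ≠ 1 := by
    intro hidx1
    have htop := Subgroup.index_eq_one.1 hidx1
    have h1 := frattini_nongenerating (G := P) (K := ⊥) (by rw [htop]; exact sup_top_eq _)
    have h2 : Nat.card P = 1 := by
      rw [← Subgroup.card_top (G := P), ← h1, Subgroup.card_bot]
    rw [h2] at hev
    omega
  have hdvd : (frattini P).index ∣ 2 := by
    have hgen : ∀ v : P ⧸ frattini P, v ∈ Subgroup.zpowers (QuotientGroup.mk x : P ⧸ frattini P) := by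
      intro v
      obtain ⟨y, rfl⟩ := QuotientGroup.mk_surjective v
      obtain ⟨m, hm⟩ := Subgroup.mem_zpowers_iff.1 (hx y)
      refine Subgroup.mem_zpowers_iff.2 ⟨m, ?_⟩
      rw [← hm]
      rfl
    have h1 : Nat.card (P ⧸ frattini P) = orderOf (QuotientGroup.mk x : P ⧸ frattini P) :=
      (orderOf_eq_card_of_forall_mem_zpowers hgen).symm
    show Nat.card (P ⧸ frattini P) ∣ 2
    rw [h1]
    apply orderOf_dvd_of_pow_eq_one
    rw [← QuotientGroup.mk_pow, QuotientGroup.eq_one_iff]
    exact Cfsg.Agent.Lib.FrattiniPGroup.pow_mem_frattini hP x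
  exact ((Nat.dvd_prime Nat.prime_two).1 hdvd).resolve_left hne

/-- **S4548.** -/
theorem isCyclic_iff {M : Ideal AlgInt} (hM : IsPModular 2 M) [Finite G]
    (h : Cube G k) (hev : Even (Nat.card G)) (P : Sylow 2 G) : IsCyclic P ↔
      Nat.card {χ : IrrCharacter G // χ ∈ principalBlock M G ∧ Odd (charDegree (χ : G → ℂ)) ∧
        ∀ g : G, (χ : G → ℂ) (g ^ k) = (χ : G → ℂ) g} = 2 := by
  have := fact_two
  constructor
  · intro hc
    have hmin : (Nat.card G).minFac = 2 := (Nat.minFac_eq_two_iff _).2 (even_iff_two_dvd.1 hev)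
    have hcomp : HasNormalPComplement 2 G := by
      have h1 := IsCyclic.isComplement' hmin hc
      exact ⟨P, _, MonoidHom.normal_ker _, h1⟩
    rw [card_fixed_of_complement hM h hcomp P]
    refine frattini_index_of_isCyclic P.isPGroup' hc ?_
    exact P.dvd_card_of_dvd_card (even_iff_two_dvd.1 hev)
  · intro h2
    have hcomp : HasNormalPComplement 2 G := by
      rw [normal_complement_iff hM h]
      intro χ hχ hodd hfix
      exact linear_of_card_two hM h hev (by rw [← Nat.card_congr (fixedEquiv h M)]; exact h2)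
        χ hχ hodd hfix
    rw [card_fixed_of_complement hM h hcomp P] at h2
    exact isCyclic_of_frattini h2

end Cfsg.Agent.H618.Complement
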