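import Cfsg.Agent.Characters.Core
import Cfsg.Agent.Characters.GaloisBasic
import Cfsg.Agent.Characters.Linear
import Cfsg.Agent.OddOrderCharacters.Clifford
import Cfsg.Agent.CharactersDeep.IndFun
import Cfsg.Agent.PermutationGroups.Subdegree
import Cfsg.Agent.OddOrderCharacters.InertiaAbelian
import Cfsg.Agent.H113.NormTwoChar
import Cfsg.Agent.FastGrp
import Cfsg.Agent.Prune
set_option linter.all false
prune_inst 0x7f00000000000000000000000000000000000000000000000000000000000000000000000000000000000000000000000000000000000000000000000000000000000000000000000000000000000000003fffffffffffffffffffffffffffbeffbdffffffff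
open scoped Cfsg.Agent.FastGrp

/-!
# The constituents of `θ^G` for a two-transitive group, `θ` of order two

(helper618, for S4948.) `G = H ∪ U x H` with `U ≤ H` of odd order acting regularly on the remaining points, `θ` a
homomorphism from `H` to `±1`, invariant under the fusion of `H` in `G`. Then `θ^G = χ₁ + χ₂` with real `χ₁`, `χ₂` of
odd degree, invariant under the automorphisms stabilizing `θ^G` and the class of an element of `U`.
-/

set_option autoImplicit false

namespace Cfsg.Agent.H618.ParInd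

open Cfsg Cfsg.Agent.Characters.Core Cfsg.Agent.OddOrderCharacters.Clifford
open scoped ComplexConjugate

/-! ### Real characters of groups of odd order -/

section Odd

variable {U : Type*} [Group U] [Fintype U]

omit [Fintype U] in
theorem inv_ne_self (hodd : Odd (Nat.card U)) {u : U} (hu : u ≠ 1) : u⁻¹ ≠ u := by
  intro h
  apply hu
  have h1 : u ^ 2 = 1 := by
    rw [pow_two]
    nth_rw 1 [← h]
    exact inv_mul_cancel u
  have h2 : orderOf u ∣ 2 := orderOf_dvd_of_pow_eq_one h1
  have h3 : orderOf u ∣ Nat.card U := orderOf_dvd_natCard u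
  have h4 : Nat.Coprime 2 (Nat.card U) := Nat.coprime_two_left.2 hodd
  rw [← orderOf_eq_one_iff]
  exact Nat.eq_one_of_dvd_coprimes h4 h2 h3

/-- The degree of a real character of a group of odd order is congruent to the multiplicity of the principal character. -/
theorem parity_of_real (hodd : Odd (Nat.card U)) {χ : U → ℂ} (hχ : IsCharacter U χ)
    (hreal : ∀ u, conj (χ u) = χ u) {n m : ℕ} (hn : χ 1 = n) (hm : classInner χ 1 = m) : n % 2 = m % 2 := by
  classical
  obtain ⟨e⟩ : Nonempty (U ≃ Fin (Fintype.card U)) := ⟨Fintype.equivFin U⟩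
  have hinv : ∀ u, χ u⁻¹ = χ u := by
    intro u
    rw [isCharacter_apply_inv hχ, hreal]
  set S1 : Finset U := Finset.univ.filter (fun u => e u < e u⁻¹) with hS1
  set S2 : Finset U := Finset.univ.filter (fun u => e u⁻¹ < e u) with hS2
  have h1 : ∑ u : U, χ u = χ 1 + (∑ u ∈ S1, χ u + ∑ u ∈ S2, χ u) := by
    have hd : Disjoint S1 S2 := by
      rw [Finset.disjoint_left]
      intro u h h'
      simp only [hS1, hS2, Finset.mem_filter, Finset.mem_univ, true_and] at h h'
      exact absurd h (not_lt_of_gt h')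
    rw [← Finset.sum_union hd]
    have h2 : (Finset.univ : Finset U) = insert 1 (S1 ∪ S2) := by
      ext u
      simp only [Finset.mem_univ, Finset.mem_insert, Finset.mem_union, hS1, hS2, Finset.mem_filter, true_and, true_iff]
      by_cases hu : u = 1
      · exact Or.inl hu
      · right
        rcases lt_trichotomy (e u) (e u⁻¹) with h | h | h
        · exact Or.inl h
        · exact absurd (e.injective h).symm (inv_ne_self hodd hu)
        · exact Or.inr h
    rw [h2, Finset.sum_insert]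
    simp only [Finset.mem_union, hS1, hS2, Finset.mem_filter, Finset.mem_univ, true_and, inv_one, lt_self_iff_false,
      or_self, not_false_eq_true]
  have h2 : ∑ u ∈ S2, χ u = ∑ u ∈ S1, χ u := by
    refine Finset.sum_bij' (fun u _ => u⁻¹) (fun u _ => u⁻¹) ?_ ?_ ?_ ?_ ?_
    · intro u hu
      simp only [hS1, hS2, Finset.mem_filter, Finset.mem_univ, true_and, inv_inv] at hu ⊢
      exact hu
    · intro u hu
      simp only [hS1, hS2, Finset.mem_filter, Finset.mem_univ, true_and, inv_inv] at hu ⊢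
      exact hu
    · intro u _; exact inv_inv u
    · intro u _; exact inv_inv u
    · intro u _; exact (hinv u).symm
  have h3 : ∑ u : U, χ u = (Nat.card U : ℂ) * m := by
    rw [← hm, classInner_def, mul_inv_cancel_left₀]
    · simp
    · exact_mod_cast Nat.card_pos.ne'
  have h4 : (((Nat.card U * m : ℕ) - (n : ℕ) : ℤ) : ℂ) = ((2 : ℕ) : ℂ) * ∑ u ∈ S1, χ u := by
    push_cast
    rw [← h3, h1, hn, h2]
    ring
  have h5 : IsIntegral ℤ (∑ u ∈ S1, χ u) :=
    IsIntegral.sum _ fun u _ => Cfsg.Agent.Characters.GaloisBasic.isIntegral_apply hχ u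
  have h6 := Cfsg.Agent.PermutationGroups.Subdegree.dvd_of_isIntegral h4 h5
  obtain ⟨k, hk⟩ := hodd
  rw [hk] at h6
  obtain ⟨l, hl⟩ := h6
  push_cast at hl
  have h7 : (m : ℤ) - n = 2 * (l - k * m) := by linarith
  omega

end Odd

section Main

variable {G : Type*} [Group G]

/-- `G = H ∪ U x H`, `U ≤ H` of odd order, regular on the remaining points; `θ` a nontrivial homomorphism from `H` to
`±1`, invariant under the fusion of `H` in `G`. -/
structure Data (H U : Subgroup G) (θ : H →* ℂˣ) : Prop where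
  le : U ≤ H
  odd : Odd (Nat.card U)
  ne_top : ∃ x, x ∉ H
  tr : ∀ x ∉ H, ∀ y ∉ H, ∃ u ∈ U, ∃ h ∈ H, y = u * x * h
  free : ∀ u ∈ U, u ≠ 1 → ∀ x ∉ H, x⁻¹ * u * x ∉ H
  sgn : ∀ h, θ h = 1 ∨ θ h = -1
  ne_one : ∃ h, θ h ≠ 1
  inv : ∀ (x : G) (h : H) (hx : x⁻¹ * h * x ∈ H), θ ⟨_, hx⟩ = θ h

namespace Data

variable {H U : Subgroup G} {θ : H →* ℂˣ}

section Count

variable [Finite G]

include θ in
theorem card_compl (D : Data H U θ) : Nat.card {y : G // y ∉ H} = Nat.card U * Nat.card H := by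
  obtain ⟨x, hx⟩ := D.ne_top
  rw [← Nat.card_prod]
  have hmem : ∀ p : U × H, (p.1 : G) * x * p.2 ∉ H := by
    intro p h
    apply hx
    have h1 : (p.1 : G)⁻¹ * (p.1 * x * p.2) * (p.2 : G)⁻¹ ∈ H :=
      H.mul_mem (H.mul_mem (H.inv_mem (D.le p.1.2)) h) (H.inv_mem p.2.2)
    have h2 : (p.1 : G)⁻¹ * (p.1 * x * p.2) * (p.2 : G)⁻¹ = x := by group
    rwa [h2] at h1
  symm
  refine Nat.card_congr (Equiv.ofBijective (fun p : U × H => ⟨(p.1 : G) * x * p.2, hmem p⟩) ⟨?_, ?_⟩)
  · rintro ⟨u, h⟩ ⟨u', h'⟩ heq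
    have heq' : (u : G) * x * h = u' * x * h' := congrArg Subtype.val heq
    have h1 : x⁻¹ * ((u' : G)⁻¹ * u) * x = h' * (h : G)⁻¹ := by
      have : (u' : G)⁻¹ * u * x = x * h' * (h : G)⁻¹ := by
        calc (u' : G)⁻¹ * u * x = (u' : G)⁻¹ * (u * x * h) * (h : G)⁻¹ := by group
          _ = (u' : G)⁻¹ * (u' * x * h') * (h : G)⁻¹ := by rw [heq']
          _ = x * h' * (h : G)⁻¹ := by group
      calc x⁻¹ * ((u' : G)⁻¹ * u) * x = x⁻¹ * ((u' : G)⁻¹ * u * x) := by group
        _ = x⁻¹ * (x * h' * (h : G)⁻¹) := by rw [this]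
        _ = h' * (h : G)⁻¹ := by group
    have h2 : (u' : G)⁻¹ * u = 1 := by
      by_contra hne
      apply D.free _ (U.mul_mem (U.inv_mem u'.2) u.2) hne x hx
      rw [h1]
      exact H.mul_mem h'.2 (H.inv_mem h.2)
    have h3 : u = u' := Subtype.ext (inv_mul_eq_one.1 h2).symm
    subst h3
    have h4 : (h : G) = h' := mul_left_cancel heq'
    rw [Subtype.ext h4]
  · rintro ⟨y, hy⟩
    obtain ⟨u, hu, h, hh, rfl⟩ := D.tr x hx y hy
    exact ⟨(⟨u, hu⟩, ⟨h, hh⟩), rfl⟩

include θ in
theorem card_eq (D : Data H U θ) : Nat.card G = (Nat.card U + 1) * Nat.card H := by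
  classical
  have h1 : Nat.card G = Nat.card {y : G // y ∈ H} + Nat.card {y : G // ¬ y ∈ H} := by
    rw [← Nat.card_sum]
    exact Nat.card_congr (Equiv.sumCompl (fun y : G => y ∈ H)).symm
  have h2 := D.card_compl
  have h3 : Nat.card {y : G // y ∈ H} = Nat.card H := rfl
  rw [h1, h2, h3]
  ring

include θ in
theorem index_eq (D : Data H U θ) : H.index = Nat.card U + 1 := by
  have h1 := H.index_mul_card
  rw [D.card_eq] at h1
  exact Nat.eq_of_mul_eq_mul_right Nat.card_pos h1

include θ in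
theorem card_dsub (D : Data H U θ) {x : G} (hx : x ∉ H) : Nat.card U * Nat.card (dsub H x) = Nat.card H := by
  rw [← Nat.card_prod]
  refine Nat.card_congr (Equiv.ofBijective (fun p : U × dsub H x => (⟨p.1, D.le p.1.2⟩ : H) * (p.2 : H)) ⟨?_, ?_⟩)
  · rintro ⟨u, d⟩ ⟨u', d'⟩ heq
    have heq' : (u : G) * ((d : H) : G) = u' * ((d' : H) : G) := congrArg Subtype.val heq
    have hd := (mem_dsub H x (d : H)).1 d.2
    have hd' := (mem_dsub H x (d' : H)).1 d'.2
    have h1 : x⁻¹ * ((u' : G)⁻¹ * u) * x = (x⁻¹ * ((d' : H) : G) * x) * (x⁻¹ * ((d : H) : G) * x)⁻¹ := by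
      have : (u' : G)⁻¹ * u = ((d' : H) : G) * ((d : H) : G)⁻¹ := by
        calc (u' : G)⁻¹ * u = (u' : G)⁻¹ * (u * ((d : H) : G)) * ((d : H) : G)⁻¹ := by group
          _ = (u' : G)⁻¹ * (u' * ((d' : H) : G)) * ((d : H) : G)⁻¹ := by rw [heq']
          _ = ((d' : H) : G) * ((d : H) : G)⁻¹ := by group
      rw [this]
      group
    have h2 : (u' : G)⁻¹ * u = 1 := by
      by_contra hne
      apply D.free _ (U.mul_mem (U.inv_mem u'.2) u.2) hne x hx
      rw [h1]
      exact H.mul_mem hd' (H.inv_mem hd)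
    have h3 : u = u' := Subtype.ext (inv_mul_eq_one.1 h2).symm
    subst h3
    have h4 : ((d : H) : G) = (d' : H) := mul_left_cancel heq'
    rw [Subtype.ext (Subtype.ext h4)]
  · intro h
    have hy : (h : G) * x ∉ H := by
      intro h1
      apply hx
      have := H.mul_mem (H.inv_mem h.2) h1
      rwa [inv_mul_cancel_left] at this
    obtain ⟨u, hu, h', hh', he⟩ := D.tr x hx _ hy
    have hd : (u : G)⁻¹ * h ∈ H := H.mul_mem (H.inv_mem (D.le hu)) h.2
    refine ⟨(⟨u, hu⟩, ⟨⟨(u : G)⁻¹ * h, hd⟩, ?_⟩), ?_⟩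
    · rw [mem_dsub]
      have : x⁻¹ * ((u : G)⁻¹ * h) * x = h' := by
        calc x⁻¹ * ((u : G)⁻¹ * h) * x = x⁻¹ * (u : G)⁻¹ * (h * x) := by group
          _ = x⁻¹ * (u : G)⁻¹ * (u * x * h') := by rw [he]
          _ = h' := by group
      change x⁻¹ * ((u : G)⁻¹ * h) * x ∈ H
      rw [this]
      exact hh'
    · apply Subtype.ext
      change u * ((u : G)⁻¹ * h) = h
      group

end Count

theorem theta_U [Finite G] (D : Data H U θ) {u : G} (hu : u ∈ U) : θ ⟨u, D.le hu⟩ = 1 := by
  rcases D.sgn ⟨u, D.le hu⟩ with h | h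
  · exact h
  · exfalso
    have h1 : (⟨u, D.le hu⟩ : H) ^ Nat.card U = 1 := by
      apply Subtype.ext
      have : (⟨u, hu⟩ : U) ^ Nat.card U = 1 := pow_card_eq_one'
      have h2 : u ^ Nat.card U = 1 := congrArg Subtype.val this
      rw [Subgroup.coe_pow, Subgroup.coe_one]
      exact h2
    have h2 := congrArg θ h1
    rw [map_pow, h, map_one, D.odd.neg_one_pow] at h2
    have h3 := congrArg (Units.val) h2
    rw [Units.val_neg, Units.val_one] at h3
    norm_num at h3

theorem theta_real (D : Data H U θ) (h : H) : conj ((θ h : ℂˣ) : ℂ) = (θ h : ℂ) := by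
  rcases D.sgn h with h1 | h1 <;> rw [h1] <;> simp

theorem theta_sq (D : Data H U θ) (h : H) : ((θ h : ℂˣ) : ℂ) * (θ h : ℂ) = 1 := by
  rcases D.sgn h with h1 | h1 <;> rw [h1] <;> simp

variable [Fintype G]

/-- The induced character. -/
noncomputable def psi (θ : H →* ℂˣ) : G → ℂ := indFun H (fun t => (θ t : ℂ))

theorem psi_char (θ : H →* ℂˣ) : IsCharacter G (psi θ) :=
  Cfsg.Agent.CharactersDeep.IndFun.isCharacter_indFun H (Cfsg.Agent.Characters.Linear.isCharacter_hom θ)

theorem psi_one (D : Data H U θ) : psi θ 1 = (Nat.card U : ℂ) + 1 := by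
  unfold psi
  rw [Cfsg.Agent.OddOrderCharacters.InertiaAbelian.indFun_one, D.index_eq, map_one]
  push_cast
  ring

theorem psi_U (D : Data H U θ) {u : G} (hu : u ∈ U) (h1 : u ≠ 1) : psi θ u = 1 := by
  classical
  unfold psi
  rw [Cfsg.Agent.Characters.Core.indFun_apply]
  have h2 : ∀ x : G, extendByZero H (fun t => (θ t : ℂ)) (x⁻¹ * u * x) = if x ∈ H then 1 else 0 := by
    intro x
    by_cases hx : x ∈ H
    · rw [if_pos hx]
      have hm : x⁻¹ * u * x ∈ H := H.mul_mem (H.mul_mem (H.inv_mem hx) (D.le hu)) hx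
      rw [ext_apply_mem H _ _ hm, D.inv x ⟨u, D.le hu⟩ hm, D.theta_U hu]
      rfl
    · rw [if_neg hx, ext_apply_not_mem H _ _ (D.free u hu h1 x hx)]
  simp only [h2]
  rw [Finset.sum_boole]
  have h3 : (Finset.univ.filter (fun x : G => x ∈ H)).card = Nat.card H := by
    rw [← Fintype.card_subtype, ← Nat.card_eq_fintype_card]
  rw [h3]
  have : (Nat.card H : ℂ) ≠ 0 := by exact_mod_cast Nat.card_pos.ne'
  field_simp

omit [Fintype G] in
theorem twist_eq (D : Data H U θ) [Fintype H] (x : G) :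
    twist H (fun t => (θ t : ℂ)) (fun t => (θ t : ℂ)) x = Nat.card (dsub H x) := by
  classical
  rw [twist_def]
  have h1 : ∀ t : H, ((θ t : ℂˣ) : ℂ) * conj (extendByZero H (fun t => (θ t : ℂ)) (x⁻¹ * t * x)) =
      if t ∈ dsub H x then 1 else 0 := by
    intro t
    by_cases ht : t ∈ dsub H x
    · have hm := (mem_dsub H x t).1 ht
      rw [if_pos ht, ext_apply_mem H _ _ hm, D.inv x t hm, D.theta_real, D.theta_sq]
    · rw [if_neg ht, ext_apply_not_mem H _ _ (fun h => ht ((mem_dsub H x t).2 h)), map_zero, mul_zero]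
  simp only [h1]
  rw [Finset.sum_boole]
  congr 1
  rw [← Fintype.card_subtype, ← Nat.card_eq_fintype_card]

theorem psi_norm (D : Data H U θ) : classInner (psi θ) (psi θ) = 2 := by
  classical
  have : Fintype H := Fintype.ofFinite H
  unfold psi
  rw [classInner_indFun_indFun]
  simp only [D.twist_eq]
  have hU : (Nat.card U : ℂ) ≠ 0 := by exact_mod_cast Nat.card_pos.ne'
  have hH : (Nat.card H : ℂ) ≠ 0 := by exact_mod_cast Nat.card_pos.ne'
  have h1 : ∀ x : G, (Nat.card U : ℂ) * (Nat.card (dsub H x) : ℂ) =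
      (Nat.card H : ℂ) + if x ∈ H then ((Nat.card U : ℂ) - 1) * Nat.card H else 0 := by
    intro x
    by_cases hx : x ∈ H
    · rw [if_pos hx]
      have h2 : dsub H x = ⊤ := by
        rw [eq_top_iff]
        intro t _
        rw [mem_dsub]
        exact H.mul_mem (H.mul_mem (H.inv_mem hx) t.2) hx
      rw [h2, Subgroup.card_top]
      ring
    · rw [if_neg hx, add_zero, ← D.card_dsub hx]
      push_cast
      rfl
  have h3 : (Nat.card U : ℂ) * ∑ x : G, (Nat.card (dsub H x) : ℂ) = (Nat.card U : ℂ) * (2 * (Nat.card H : ℂ) ^ 2) := by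
    rw [Finset.mul_sum]
    simp only [h1]
    rw [Finset.sum_add_distrib, Finset.sum_const, ← Finset.sum_filter, Finset.sum_const]
    have h4 : (Finset.univ.filter (fun x : G => x ∈ H)).card = Nat.card H := by
      rw [← Fintype.card_subtype, ← Nat.card_eq_fintype_card]
    rw [h4, Finset.card_univ, ← Nat.card_eq_fintype_card, D.card_eq]
    simp only [nsmul_eq_mul]
    push_cast
    ring
  rw [mul_left_cancel₀ hU h3]
  field_simp

/-! ### The constituents -/

section Constituents

variable {χ₁ χ₂ : G → ℂ}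

/-- A decomposition of a sum of two different irreducible characters is unique. -/
theorem eq_or_eq (h1 : IsIrrCharacter G χ₁) (h2 : IsIrrCharacter G χ₂) {f₁ f₂ : G → ℂ} (h3 : IsIrrCharacter G f₁)
    (h4 : IsIrrCharacter G f₂) (h : χ₁ + χ₂ = f₁ + f₂) : f₁ = χ₁ ∨ f₁ = χ₂ := by
  by_contra hne
  push Not at hne
  have h5 : classInner (χ₁ + χ₂) f₁ = 0 := by
    rw [classInner_add_left, classInner_irr_ne h1 h3 (Ne.symm hne.1), classInner_irr_ne h2 h3 (Ne.symm hne.2), add_zero]
  rw [h, classInner_add_left, classInner_irr_self h3, classInner_irr h4 h3] at h5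
  split_ifs at h5 <;> norm_num at h5

/-- The value `1 / 2` is not an algebraic integer. -/
theorem no_exchange (h1 : IsIrrCharacter G χ₁) {z : G} (h : χ₁ z + χ₂ z = 1) (he : χ₂ z = χ₁ z) : False := by
  rw [he] at h
  have h3 : (((1 : ℤ)) : ℂ) = ((2 : ℕ) : ℂ) * χ₁ z := by
    push_cast
    rw [← h]; ring
  have h4 := Cfsg.Agent.PermutationGroups.Subdegree.dvd_of_isIntegral h3
    (Cfsg.Agent.Characters.GaloisBasic.isIntegral_apply (isIrr_isCharacter h1) z)
  norm_num at h4

theorem psi_conj (D : Data H U θ) (g : G) : conj (psi θ g) = psi θ g := by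
  classical
  unfold psi
  rw [Cfsg.Agent.Characters.Core.indFun_apply, map_mul, map_inv₀, Complex.conj_natCast, map_sum]
  congr 1
  refine Finset.sum_congr rfl fun x _ => ?_
  by_cases hm : x⁻¹ * g * x ∈ H
  · rw [ext_apply_mem H _ _ hm, D.theta_real]
  · rw [ext_apply_not_mem H _ _ hm, map_zero]

theorem real_of (D : Data H U θ) (h1 : IsIrrCharacter G χ₁) (h2 : IsIrrCharacter G χ₂) (h : psi θ = χ₁ + χ₂)
    {z : G} (hz : z ∈ U) (hz1 : z ≠ 1) (hc : IsConj z z⁻¹) (g : G) : conj (χ₁ g) = χ₁ g := by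
  have h3 : χ₁ + χ₂ = (fun g => conj (χ₁ g)) + (fun g => conj (χ₂ g)) := by
    funext x
    have := D.psi_conj x
    rw [h, Pi.add_apply, map_add] at this
    rw [Pi.add_apply, Pi.add_apply, this]
  rcases eq_or_eq h1 h2 (isIrr_conj h1) (isIrr_conj h2) h3 with h4 | h4
  · exact congrFun h4 g
  · exfalso
    have h5 := D.psi_U hz hz1
    rw [h, Pi.add_apply] at h5
    apply no_exchange h1 h5
    rw [← congrFun h4 z]
    show conj (χ₁ z) = χ₁ z
    rw [← isCharacter_apply_inv (isIrr_isCharacter h1)]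
    obtain ⟨c, hc⟩ := isConj_iff.1 hc
    rw [← hc]
    exact isIrr_isClassFunction h1 z c

theorem aut_of (D : Data H U θ) (h1 : IsIrrCharacter G χ₁) (h2 : IsIrrCharacter G χ₂) (h : psi θ = χ₁ + χ₂)
    {z : G} (hz : z ∈ U) (hz1 : z ≠ 1) (α : G ≃* G) (hα : ∀ g, psi θ (α g) = psi θ g) (hc : IsConj z (α z)) (g : G) :
    χ₁ (α g) = χ₁ g := by
  have h3 : χ₁ + χ₂ = (χ₁ ∘ (α : G →* G)) + (χ₂ ∘ (α : G →* G)) := by
    funext x
    have := hα x
    rw [h, Pi.add_apply, Pi.add_apply] at this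
    exact this.symm
  have hs : Function.Surjective (α : G →* G) := α.surjective
  rcases eq_or_eq h1 h2 (isIrr_comp _ hs h1) (isIrr_comp _ hs h2) h3 with h4 | h4
  · exact congrFun h4 g
  · exfalso
    have h5 := D.psi_U hz hz1
    rw [h, Pi.add_apply] at h5
    apply no_exchange h1 h5
    rw [← congrFun h4 z]
    show χ₁ (α z) = χ₁ z
    obtain ⟨c, hc⟩ := isConj_iff.1 hc
    rw [← hc]
    exact isIrr_isClassFunction h1 z c

/-- The multiplicity of the principal character of `U` is positive. -/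
theorem exists_mult (D : Data H U θ) [Fintype U] (h1 : IsIrrCharacter G χ₁) (h2 : IsIrrCharacter G χ₂)
    (h : psi θ = χ₁ + χ₂) : ∃ n : ℕ, classInner (χ₁ ∘ U.subtype) 1 = (n : ℂ) + 1 := by
  classical
  have : Fintype H := Fintype.ofFinite H
  have h3 : classInner (psi θ) χ₁ ≠ 0 := by
    rw [h, classInner_add_left, classInner_irr_self h1, classInner_irr h2 h1]
    split_ifs <;> norm_num
  unfold psi at h3
  rw [Cfsg.Agent.OddOrderCharacters.Clifford.classInner_indFun H _ _ (isIrr_isClassFunction h1)] at h3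
  have h4 : classInner (χ₁ ∘ H.subtype) (fun t => (θ t : ℂ)) ≠ 0 := by
    intro h5
    apply h3
    rw [← classInner_conj_symm]
    change conj (classInner (χ₁ ∘ H.subtype) _) = 0
    rw [h5, map_zero]
  have hθ := Cfsg.Agent.Characters.Linear.isCharacter_hom θ
  have hθi : IsIrrCharacter H (fun t => (θ t : ℂ)) := by
    apply isIrr_of_classInner_self hθ
    rw [classInner_def]
    have : ∀ t : H, ((θ t : ℂˣ) : ℂ) * conj (θ t : ℂ) = 1 := fun t => by rw [D.theta_real, D.theta_sq]
    simp only [this]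
    rw [Finset.sum_const, Finset.card_univ, ← Nat.card_eq_fintype_card, nsmul_eq_mul, mul_one, inv_mul_cancel₀]
    exact_mod_cast Nat.card_pos.ne'
  have h5 := isCharacter_sub_irr (isCharacter_comp H.subtype (isIrr_isCharacter h1)) hθi h4
  have h6 := isCharacter_comp (Subgroup.inclusion D.le) h5
  obtain ⟨n, hn⟩ := classInner_isNat h6 isCharacter_one
  refine ⟨n, ?_⟩
  rw [← hn]
  have h7 : (χ₁ ∘ U.subtype) = ((χ₁ ∘ H.subtype - fun t => ((θ t : ℂˣ) : ℂ)) ∘ (Subgroup.inclusion D.le)) + 1 := by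
    funext u
    have h8 := D.theta_U u.2
    simp only [Function.comp_apply, Pi.add_apply, Pi.sub_apply, Pi.one_apply]
    have h9 : (Subgroup.inclusion D.le) u = ⟨u, D.le u.2⟩ := rfl
    rw [h9, h8]
    simp
  rw [h7, classInner_add_left]
  congr 1
  rw [classInner_irr_self isIrr_one]

theorem psi_inner_U (D : Data H U θ) [Fintype U] : classInner (psi θ ∘ U.subtype) 1 = 2 := by
  classical
  rw [classInner_def]
  have hU : (Nat.card U : ℂ) ≠ 0 := by exact_mod_cast Nat.card_pos.ne'
  have h1 : ∀ u : U, (psi θ ∘ U.subtype) u * conj ((1 : U → ℂ) u) = 1 + if u = 1 then (Nat.card U : ℂ) else 0 := by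
    intro u
    rw [Pi.one_apply, map_one, mul_one]
    by_cases hu : u = 1
    · subst hu
      rw [if_pos rfl]
      show psi θ ((1 : U) : G) = _
      rw [Subgroup.coe_one, D.psi_one]
      ring
    · rw [if_neg hu, add_zero]
      exact D.psi_U u.2 (fun h => hu (Subtype.ext h))
  simp only [h1]
  rw [Finset.sum_add_distrib, Finset.sum_const, Finset.sum_ite_eq' , if_pos (Finset.mem_univ _), Finset.card_univ,
    ← Nat.card_eq_fintype_card, nsmul_eq_mul, mul_one]
  field_simp
  norm_num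

theorem mult_eq_one (D : Data H U θ) [Fintype U] (h1 : IsIrrCharacter G χ₁) (h2 : IsIrrCharacter G χ₂)
    (h : psi θ = χ₁ + χ₂) : classInner (χ₁ ∘ U.subtype) 1 = 1 := by
  obtain ⟨n, hn⟩ := D.exists_mult h1 h2 h
  obtain ⟨m, hm⟩ := D.exists_mult h2 h1 (by rw [h, add_comm])
  have h3 := D.psi_inner_U
  rw [h] at h3
  have h4 : (χ₁ + χ₂) ∘ U.subtype = χ₁ ∘ U.subtype + χ₂ ∘ U.subtype := rfl
  rw [h4, classInner_add_left, hn, hm] at h3
  have h5 : n + m = 0 := by
    have : ((n + m : ℕ) : ℂ) = 0 := by push_cast; linear_combination h3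
    exact_mod_cast this
  rw [hn]
  have : n = 0 := by omega
  rw [this]; simp

theorem odd_of (D : Data H U θ) (h1 : IsIrrCharacter G χ₁) (h2 : IsIrrCharacter G χ₂) (h : psi θ = χ₁ + χ₂)
    (hr : ∀ g, conj (χ₁ g) = χ₁ g) {n : ℕ} (hn : χ₁ 1 = n) : ¬ 2 ∣ n := by
  classical
  have : Fintype U := Fintype.ofFinite U
  have h3 := parity_of_real D.odd (isCharacter_comp U.subtype (isIrr_isCharacter h1)) (fun u => hr u) (n := n) (m := 1)
    (by rw [← hn]; rfl) (by rw [D.mult_eq_one h1 h2 h]; simp)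
  omega

/-- The principal character is not a constituent. -/
theorem ne_principal (D : Data H U θ) (h2 : IsIrrCharacter G χ₂) (h : psi θ = χ₁ + χ₂) : χ₁ ≠ 1 := by
  classical
  rintro rfl
  have : Fintype H := Fintype.ofFinite H
  have h3 : classInner (psi θ) 1 ≠ 0 := by
    rw [h, classInner_add_left, classInner_irr_self isIrr_one, classInner_irr h2 isIrr_one]
    split_ifs <;> norm_num
  unfold psi at h3
  rw [Cfsg.Agent.OddOrderCharacters.Clifford.classInner_indFun H _ _ (isIrr_isClassFunction isIrr_one), classInner_def] at h3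
  apply h3
  have h4 : ∑ t : H, ((θ t : ℂˣ) : ℂ) = 0 := by
    obtain ⟨h0, hh0⟩ := D.ne_one
    have h5 : ((θ h0 : ℂˣ) : ℂ) = -1 := by
      rcases D.sgn h0 with h6 | h6
      · exact absurd h6 hh0
      · rw [h6]; simp
    have h6 : ∑ t : H, ((θ t : ℂˣ) : ℂ) = ∑ t : H, ((θ (h0 * t) : ℂˣ) : ℂ) :=
      (Fintype.sum_equiv (Equiv.mulLeft h0) _ _ fun t => rfl).symm
    simp only [map_mul, Units.val_mul, h5, neg_mul, one_mul, Finset.sum_neg_distrib] at h6
    linear_combination h6 / 2
  simp only [Pi.one_apply, map_one, mul_one]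
  rw [h4, mul_zero]

theorem one_lt (D : Data H U θ) (h1 : IsIrrCharacter G χ₁) (h2 : IsIrrCharacter G χ₂) (h : psi θ = χ₁ + χ₂)
    (hr : ∀ g, conj (χ₁ g) = χ₁ g) (hgen : Subgroup.normalClosure (U : Set G) = ⊤) : χ₁ 1 ≠ 1 := by
  intro h3
  obtain ⟨f, hf⟩ := Cfsg.Agent.Characters.Linear.exists_hom_of_isCharacter (isIrr_isCharacter h1) h3
  apply D.ne_principal h2 h
  have h4 : U ≤ f.ker := by
    intro u hu
    rw [MonoidHom.mem_ker]
    have h5 : conj ((f u : ℂˣ) : ℂ) = (f u : ℂ) := by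
      have := hr u
      rwa [hf] at this
    have h6 : ((f u : ℂˣ) : ℂ) ^ Nat.card U = 1 := by
      have : (⟨u, hu⟩ : U) ^ Nat.card U = 1 := pow_card_eq_one'
      have h2 : u ^ Nat.card U = 1 := congrArg Subtype.val this
      rw [← Units.val_pow_eq_pow_val, ← map_pow, h2, map_one, Units.val_one]
    obtain ⟨r, hr'⟩ := Complex.conj_eq_iff_real.1 h5
    rw [hr'] at h6
    have h7 : r ^ Nat.card U = 1 := by exact_mod_cast h6
    have h8 : r = 1 := by
      have h9 : 0 < r := by
        by_contra h10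
        push Not at h10
        have := D.odd.pow_nonpos h10
        rw [h7] at this
        linarith
      exact (pow_eq_one_iff_of_nonneg h9.le (Nat.card_pos (α := U)).ne').1 h7
    apply Units.ext
    rw [hr', h8]
    simp
  have h5 : f.ker = ⊤ := by
    rw [eq_top_iff, ← hgen]
    exact Subgroup.normalClosure_le_normal h4
  rw [hf]
  funext g
  have : g ∈ f.ker := by rw [h5]; trivial
  rw [MonoidHom.mem_ker] at this
  rw [this]
  simp

end Constituents

end Data

end Main

end Cfsg.Agent.H618.ParInd
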