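import Cfsg.Agent.H307.FourOdd.Defs
import Cfsg.Agent.H618.ParInd
import Cfsg.Agent.H961.LinePSU3
import Cfsg.Agent.ClassicalGeometry.PSUAutMain
import Cfsg.Agent.H934.IdxPSU
import Cfsg.Agent.H667.TwoPSUModel
import Cfsg.Agent.H706.GlaubQuot
import Cfsg.Agent.CharDeep.DegreeBound
import Mathlib.NumberTheory.LegendreSymbol.QuadraticChar.Basic
import Cfsg.Agent.FastGrp
import Cfsg.Agent.Prune
set_option linter.all false
prune_inst 0x7f00000000000000000000000000000000000000000000000000000000000000000000000000000000000000000000000000000000000000000000000000000000000000000000000000000000000000003fffffffffffffffffffffffffffbeffbdfbfeffff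
open scoped Cfsg.Agent.FastGrp

/-!
# A real, automorphism invariant, irreducible character of odd degree of `PSU₃(q)`, `q` odd

(helper618, for S4948.) The character of `SU₃(q)` induced from the character of order two of the stabilizer of an
isotropic line is the sum of two such characters.
-/

set_option autoImplicit false

namespace Cfsg.Agent.H618.InvPSU3

open Matrix Cfsg Cfsg.Agent.Characters.Core Cfsg.Agent.H618.ParInd
  Cfsg.Agent.LieClassical.HermBasic Cfsg.Agent.LieClassical.HermSiegel Cfsg.Agent.LieClassical.HermGen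
  Cfsg.Agent.LieClassical.SUBasic Cfsg.Agent.ClassicalGeometry.PSUAutBasic
  Cfsg.Agent.H961.LineChar

open Cfsg.Agent.ClassicalGeometry.PSUAutCount (gm semiConj toAut herm_gm act_semiConj herm_semi
  gm_inv_mulVec gm_mulVec_inv)
open Cfsg.Agent.ClassicalGeometry.UnitAutBasic (T c0 c0_ne_zero c0_tr exists_c0_mul_norm act_T act_T_smul conj_T)

open scoped ComplexConjugate

/-! ### The quadratic character -/

section QC

variable {F : Type*} [Field F] [Fintype F] [DecidableEq F]

/-- The quadratic character as a homomorphism to `ℂˣ`. -/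
noncomputable def qc (F : Type*) [Field F] [Fintype F] [DecidableEq F] : Fˣ →* ℂˣ :=
  (Units.map (Int.castRingHom ℂ).toMonoidHom).comp (quadraticChar F).toUnitHom

theorem qc_val (a : Fˣ) : ((qc F a : ℂˣ) : ℂ) = ((quadraticChar F (a : F) : ℤ) : ℂ) := rfl

theorem qc_eq_one_iff (a : Fˣ) : qc F a = 1 ↔ IsSquare (a : F) := by
  rw [← quadraticChar_one_iff_isSquare a.ne_zero, Units.ext_iff, qc_val, Units.val_one]
  norm_cast

theorem qc_sgn (a : Fˣ) : qc F a = 1 ∨ qc F a = -1 := by
  rcases quadraticChar_dichotomy a.ne_zero with h | h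
  · left; apply Units.ext; rw [qc_val, h]; simp
  · right; apply Units.ext; rw [qc_val, h]; simp

theorem qc_eq_of_iff {a b : Fˣ} (h : IsSquare (a : F) ↔ IsSquare (b : F)) : qc F a = qc F b := by
  rw [← qc_eq_one_iff, ← qc_eq_one_iff] at h
  rcases qc_sgn a with h1 | h1 <;> rcases qc_sgn b with h2 | h2
  · rw [h1, h2]
  · exact h1.trans (h.1 h1).symm
  · exact (h.2 h2).trans h2.symm
  · rw [h1, h2]

theorem qc_map (σ : F ≃+* F) (a b : Fˣ) (h : (b : F) = σ a) : qc F b = qc F a := by
  apply qc_eq_of_iff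
  rw [h]
  constructor
  · rintro ⟨c, hc⟩
    exact ⟨σ.symm c, by apply σ.injective; rw [hc]; simp⟩
  · rintro ⟨c, hc⟩
    exact ⟨σ c, by rw [hc]; simp⟩

theorem exists_qc_ne (h2 : ringChar F ≠ 2) : ∃ a : Fˣ, qc F a ≠ 1 := by
  obtain ⟨a, ha⟩ := quadraticChar_exists_neg_one h2
  have ha0 : a ≠ 0 := by rintro rfl; simp at ha
  refine ⟨Units.mk0 a ha0, fun h => ?_⟩
  rw [qc_eq_one_iff] at h
  exact (quadraticChar_neg_one_iff_not_isSquare.1 ha) h

theorem qc_mul_self (a : Fˣ) : qc F a * qc F a = 1 := by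
  rcases qc_sgn a with h | h <;> rw [h] <;> simp

/-- If `a b^q = 1` with `q` odd then `a` and `b` have the same quadratic character. -/
theorem qc_of_mul {q : ℕ} (hq : Odd q) {a b : Fˣ} (h : (a : F) * (b : F) ^ q = 1) : qc F a = qc F b := by
  have h1 : a * b ^ q = 1 := Units.ext (by rw [Units.val_mul, Units.val_pow_eq_pow_val]; exact h)
  have h2 := congrArg (qc F) h1
  obtain ⟨k, hk⟩ := hq
  rw [map_mul, map_pow, map_one, hk, pow_succ, pow_mul, pow_two, qc_mul_self, one_pow, one_mul] at h2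
  have h3 := qc_mul_self b
  exact mul_right_cancel (h2.trans h3.symm)

end QC

/-! ### Geometry -/

section Geo

variable {F : Type*} [Field F] [Fintype F] {q : ℕ}

/-- The action as a homomorphism to matrices. -/
def rho (F : Type*) [Field F] (q : ℕ) : SU 3 F q →* Matrix (Fin 3) (Fin 3) F where
  toFun g := ((g : Matrix.SpecialLinearGroup (Fin 3) F) : Matrix (Fin 3) (Fin 3) F)
  map_one' := rfl
  map_mul' _ _ := rfl

omit [Fintype F] in
theorem rho_mulVec (g : SU 3 F q) (v : Fin 3 → F) : rho F q g *ᵥ v = act g v := rfl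

variable {e f : Fin 3 → F}

omit [Fintype F] in
theorem eq_zero_of_coord {w : Fin 3 → F} (hw : w ∈ coordSub F 3 (3 - 2)) (h : hermForm 3 F q w w = 0) : w = 0 := by
  have h1 : w 1 = 0 := hw 1 (by decide)
  have h2 : w 2 = 0 := hw 2 (by decide)
  rw [herm_def, Fin.sum_univ_three, h1, h2] at h
  have h0 : w 0 = 0 := by
    simp at h
    rcases h with h | h
    · exact h
    · exact h.1
  funext i
  fin_cases i
  · exact h0
  · exact h1
  · exact h2

theorem smul_of_perp (hF : Fintype.card F = q ^ 2) (H : IsFrame q e f) {v : Fin 3 → F} (hv : hermForm 3 F q v v = 0)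
    (hve : hermForm 3 F q v e = 0) : v = hermForm 3 F q v f • e := by
  have hfe : hermForm 3 F q f e = 1 := by rw [herm_swap hF e f, H.ef, one_pow]
  set w := v - hermForm 3 F q v f • e with hw
  have h1 : hermForm 3 F q w e = 0 := by
    rw [hw, herm_sub_left, herm_smul_left, hve, H.ee, mul_zero, sub_zero]
  have h2 : hermForm 3 F q w f = 0 := by
    rw [hw, herm_sub_left, herm_smul_left, H.ef, mul_one, sub_self]
  have h3 : hermForm 3 F q w w = 0 := by
    have h4 : hermForm 3 F q e w = 0 := herm_eq_zero_swap hF h1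
    have h5 : hermForm 3 F q v w = 0 := by
      conv_lhs => rw [hw]
      rw [herm_sub_right hF, hv, herm_smul_right, hve, mul_zero, sub_zero]
    conv_lhs => rw [hw]
    rw [herm_sub_left, herm_smul_left, h4, mul_zero, sub_zero]
    exact h5
  have h4 := eq_zero_of_coord ((H.mem w).2 ⟨h1, h2⟩) h3
  rw [hw, sub_eq_zero] at h4
  exact h4

omit [Fintype F] in
theorem e_ne (H : IsFrame q e f) : e ≠ 0 := by
  rintro rfl
  have := H.ef
  rw [herm_zero_left] at this
  exact zero_ne_one this

/-- The stabilizer of the line of `e`. -/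
theorem mem_iff_perp (hF : Fintype.card F = q ^ 2) (H : IsFrame q e f) (x : SU 3 F q) :
    x ∈ lineStab (rho F q) e ↔ hermForm 3 F q (act x e) e = 0 := by
  constructor
  · rintro ⟨a, ha⟩
    rw [rho_mulVec] at ha
    rw [ha, herm_smul_left, H.ee, mul_zero]
  · intro h
    have h1 := smul_of_perp hF H (by rw [herm_act, H.ee]) h
    have h2 : hermForm 3 F q (act x e) f ≠ 0 := by
      intro h3
      rw [h3, zero_smul] at h1
      exact e_ne H ((act_eq_zero x).1 h1)
    exact ⟨Units.mk0 _ h2, h1⟩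

/-- `SU₃(q)` is transitive on the nonzero isotropic vectors. -/
theorem exists_map (hF : Fintype.card F = q ^ 2) {u u' : Fin 3 → F} (h0 : u ≠ 0) (h0' : u' ≠ 0)
    (hu : hermForm 3 F q u u = 0) (hu' : hermForm 3 F q u' u' = 0) : ∃ g : SU 3 F q, act g u = u' := by
  obtain ⟨g, -, hg⟩ := exists_map_iso (n := 3) hF le_rfl le_rfl (mem_coordSub_top u) (mem_coordSub_top u') h0 h0' hu hu'
  exact ⟨g, hg⟩

theorem free (hF : Fintype.card F = q ^ 2) (H : IsFrame q e f) {u : SU 3 F q} (hu : u ∈ siegG hF e H.ee) {v : Fin 3 → F}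
    (hv : hermForm 3 F q v e ≠ 0) {a : F} (ha : act u v = a • v) : u = 1 := by
  obtain ⟨w, μ, h, rfl⟩ := hu
  have hue : act (siegel hF e w μ h) e = e := act_siegel_self hF h
  have h1 : a = 1 := by
    have h2 : hermForm 3 F q (act (siegel hF e w μ h) v) (act (siegel hF e w μ h) e) = hermForm 3 F q v e := herm_act _ _ _
    rw [hue, ha, herm_smul_left] at h2
    exact mul_right_cancel₀ hv (by rw [h2, one_mul])
  rw [h1, one_smul, act_siegel] at ha
  set s := hermForm 3 F q v e with hs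
  have h3 : s • w + (μ * s - hermForm 3 F q v w) • e = 0 := by
    have : v + (s • w + (μ * s - hermForm 3 F q v w) • e) = v + 0 := by rw [add_zero, ← add_assoc]; exact ha
    exact add_left_cancel this
  obtain ⟨c, hc⟩ : ∃ c : F, w = c • e := by
    refine ⟨-(s⁻¹ * (μ * s - hermForm 3 F q v w)), ?_⟩
    have h4 : s • w = -((μ * s - hermForm 3 F q v w) • e) := eq_neg_of_add_eq_zero_left h3
    rw [neg_smul, mul_smul, ← smul_neg, ← h4, inv_smul_smul₀ hv]
  have h4 : (s * c + (μ * s - c ^ q * s)) • e = 0 := by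
    rw [hc, herm_smul_right, ← hs, smul_smul, ← add_smul] at h3
    exact h3
  have h5 : c + μ - c ^ q = 0 := by
    have h6 := (smul_eq_zero.1 h4).resolve_right (e_ne H)
    have h7 : s * (c + μ - c ^ q) = 0 := by linear_combination h6
    exact (mul_eq_zero.1 h7).resolve_left hv
  apply ext_act
  intro y
  rw [act_one, act_siegel, hc, herm_smul_right, smul_smul, add_assoc, ← add_smul]
  have h8 : hermForm 3 F q y e * c + (μ * hermForm 3 F q y e - c ^ q * hermForm 3 F q y e) = 0 := by
    linear_combination hermForm 3 F q y e * h5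
  rw [h8, zero_smul, add_zero]

variable [DecidableEq F]

/-- The homomorphism of the stabilizer to `±1`. -/
noncomputable def theta (H : IsFrame q e f) : lineStab (rho F q) e →* ℂˣ := (qc F).comp (eig (rho F q) (e_ne H))

theorem theta_eq (H : IsFrame q e f) {g : lineStab (rho F q) e} {a : Fˣ} (h : act (g : SU 3 F q) e = (a : F) • e) :
    theta H g = qc F a := by
  unfold theta
  rw [MonoidHom.comp_apply, eig_eq (rho F q) (e_ne H) h]

omit [DecidableEq F] in
theorem odd_q (hF : Fintype.card F = q ^ 2) (h2 : (2 : F) ≠ 0) : Odd q := by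
  rw [← Nat.not_even_iff_odd]
  intro h
  apply h2
  have h3 := FiniteField.cast_card_eq_zero F
  rw [hF] at h3
  push_cast at h3
  have h4 : (q : F) = 0 := pow_eq_zero_iff (by norm_num) |>.1 h3
  -- the characteristic divides `q`
  obtain ⟨k, hp, hk⟩ := FiniteField.card F (ringChar F)
  have h5 : Even (Fintype.card F) := by rw [hF]; exact h.pow_of_ne_zero (by norm_num) 
  rw [hk] at h5
  have h6 : Even (ringChar F) := (Nat.even_pow.1 h5).1
  have h7 : ringChar F = 2 := (hp.even_iff).1 h6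
  have h8 := CharP.cast_eq_zero F (ringChar F)
  rw [h7] at h8
  exact_mod_cast h8

omit [DecidableEq F] in
theorem card_U (hF : Fintype.card F = q ^ 2) (H : IsFrame q e f) : Nat.card (siegG hF e H.ee) = q ^ 3 := by
  have h1 := Cfsg.Agent.H934.IdxPSU.card_siegG hF H
  have h2 := Cfsg.Agent.H667.TwoPSUModel.card_siegG_le hF H
  have h3 : (q ^ 2) ^ (3 - 2) * q = q ^ 3 := by norm_num; ring
  omega

theorem data (hF : Fintype.card F = q ^ 2) (h2 : (2 : F) ≠ 0) (H : IsFrame q e f) :
    Data (lineStab (rho F q) e) (siegG hF e H.ee) (theta H) where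
  le := by
    rintro _ ⟨w, μ, h, rfl⟩
    exact ⟨1, by rw [rho_mulVec, act_siegel_self]; simp⟩
  odd := by rw [card_U hF H]; exact (odd_q hF h2).pow
  ne_top := by
    have hfe : hermForm 3 F q f e = 1 := by rw [herm_swap hF e f, H.ef, one_pow]
    have hf0 : f ≠ 0 := by
      rintro rfl
      rw [herm_zero_left] at hfe
      exact zero_ne_one hfe
    obtain ⟨x, hx⟩ := exists_map hF (e_ne H) hf0 H.ee H.ff
    refine ⟨x, fun h => ?_⟩
    rw [mem_iff_perp hF H, hx, hfe] at h
    exact one_ne_zero h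
  tr := by
    intro x hx y hy
    rw [mem_iff_perp hF H] at hx hy
    set s := hermForm 3 F q (act x e) e with hs
    set t := hermForm 3 F q (act y e) e with ht
    obtain ⟨c, μ, h, hu⟩ := exists_siegel_map hF (u := e) (v := act x e) (v' := (s / t) • act y e) H.ee
      (by rw [herm_act, H.ee, herm_smul_left, herm_smul_right, herm_act, H.ee]; ring)
      (by rw [herm_smul_left, ← ht, ← hs]; field_simp) hx
    obtain ⟨σ, hσ, hu⟩ : ∃ σ ∈ siegG hF e H.ee, act σ (act x e) = (s / t) • act y e := ⟨_, ⟨_, _, h, rfl⟩, hu⟩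
    refine ⟨σ, hσ, x⁻¹ * σ⁻¹ * y, ?_, by group⟩
    have hst : t / s ≠ 0 := div_ne_zero hy hx
    refine ⟨Units.mk0 _ hst, ?_⟩
    rw [rho_mulVec, act_mul, act_mul]
    have h3 : act y e = (t / s) • ((s / t) • act y e) := by
      rw [smul_smul]
      have : t / s * (s / t) = 1 := by field_simp
      rw [this, one_smul]
    rw [h3, act_smul, ← hu, act_inv_act, act_smul, act_inv_act, Units.val_mk0]
  free := by
    intro u hu hu1 x hx h
    rw [mem_iff_perp hF H] at hx
    obtain ⟨a, ha⟩ := h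
    rw [rho_mulVec, act_mul, act_mul] at ha
    apply hu1
    apply free hF H hu hx (a := a)
    have h3 := congrArg (act x) ha
    rw [act_act_inv, act_smul] at h3
    exact h3
  sgn := fun h => qc_sgn _
  ne_one := by
    have hr : ringChar F ≠ 2 := by
      intro h
      apply h2
      have := CharP.cast_eq_zero F (ringChar F)
      rw [h] at this
      exact_mod_cast this
    obtain ⟨a, ha⟩ := exists_qc_ne hr
    obtain ⟨x, hx⟩ := exists_map hF (e_ne H) (smul_ne_zero a.ne_zero (e_ne H)) H.ee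
      (by rw [herm_smul_left, herm_smul_right, H.ee, mul_zero, mul_zero])
    refine ⟨⟨x, ⟨a, hx⟩⟩, ?_⟩
    rw [theta_eq H (g := ⟨x, ⟨a, hx⟩⟩) hx]
    exact ha
  inv := by
    intro x h hx
    obtain ⟨a, ha⟩ := h.2
    obtain ⟨b, hb⟩ := id hx
    rw [rho_mulVec] at ha hb
    rw [theta_eq H ha, theta_eq H (g := ⟨_, hx⟩) hb]
    rw [act_mul, act_mul] at hb
    have h3 := congrArg (act x) hb
    rw [act_act_inv, act_smul] at h3
    by_cases ht : hermForm 3 F q (act x e) e = 0
    · have h4 := smul_of_perp hF H (by rw [herm_act, H.ee]) ht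
      have h5 : hermForm 3 F q (act x e) f ≠ 0 := by
        intro h5
        rw [h5, zero_smul] at h4
        exact e_ne H ((act_eq_zero x).1 h4)
      rw [h4, act_smul, ha, smul_comm] at h3
      have h6 := unit_eq (smul_ne_zero h5 (e_ne H)) h3
      rw [h6]
    · have h4 : hermForm 3 F q (act (h : SU 3 F q) (act x e)) (act (h : SU 3 F q) e) = hermForm 3 F q (act x e) e :=
        herm_act _ _ _
      rw [h3, ha, herm_smul_left, herm_smul_right, ← mul_assoc] at h4
      have h5 : (b : F) * (a : F) ^ q = 1 := mul_right_cancel₀ ht (by rw [h4, one_mul])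
      exact qc_of_mul (odd_q hF h2) h5

/-! ### The transvection and the automorphisms -/

omit [DecidableEq F] in
theorem T_mem (hF : Fintype.card F = q ^ 2) (H : IsFrame q e f) : T hF e ∈ siegG hF e H.ee := by
  rw [Cfsg.Agent.ClassicalGeometry.UnitAutBasic.T_eq hF H.ee]
  exact ⟨_, _, _, rfl⟩

omit [DecidableEq F] in
theorem T_ne (hF : Fintype.card F = q ^ 2) (H : IsFrame q e f) : T hF e ≠ 1 := by
  intro h
  have hfe : hermForm 3 F q f e = 1 := by rw [herm_swap hF e f, H.ef, one_pow]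
  have h1 : act (T hF e) f = f := by rw [h, act_one]
  rw [act_T hF H.ee, hfe, mul_one] at h1
  have h2 : c0 hF • e = 0 := by
    have : f + c0 hF • e = f + 0 := by rw [add_zero]; exact h1
    exact add_left_cancel this
  exact smul_ne_zero (c0_ne_zero hF) (e_ne H) h2

omit [DecidableEq F] in
theorem T_isConj (hF : Fintype.card F = q ^ 2) (H : IsFrame q e f) {v : Fin 3 → F} (hv : hermForm 3 F q v v = 0)
    (hv0 : v ≠ 0) : IsConj (T hF e) (T hF v) := by
  obtain ⟨x, hx⟩ := exists_map hF (e_ne H) hv0 H.ee hv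
  rw [isConj_iff]
  exact ⟨x, by rw [conj_T hF x H.ee, hx]⟩

omit [DecidableEq F] in
theorem T_inv (hF : Fintype.card F = q ^ 2) (H : IsFrame q e f) : IsConj (T hF e) (T hF e)⁻¹ := by
  obtain ⟨r, hr⟩ := exists_c0_mul_norm hF (c := -c0 hF) (by
    rw [neg_pow_q hF]
    linear_combination - c0_tr hF)
  have hr0 : r ≠ 0 := by
    rintro rfl
    rw [zero_mul, mul_zero] at hr
    exact c0_ne_zero hF (neg_eq_zero.1 hr.symm)
  have h1 : (T hF e)⁻¹ = T hF (r • e) := by
    rw [inv_eq_iff_mul_eq_one]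
    apply ext_act
    intro y
    rw [act_mul, act_T_smul hF H.ee, act_T hF H.ee, act_one, hr, herm_add_left, herm_smul_left, H.ee, mul_zero,
      add_zero, add_assoc, ← add_smul]
    have : -c0 hF * hermForm 3 F q y e + c0 hF * hermForm 3 F q y e = 0 := by ring
    rw [this, zero_smul, add_zero]
  rw [h1]
  exact T_isConj hF H (by rw [herm_smul_left, herm_smul_right, H.ee, mul_zero, mul_zero])
    (smul_ne_zero hr0 (e_ne H))

omit [DecidableEq F] in
theorem semiConj_T (hF : Fintype.card F = q ^ 2) (A : Cfsg.GU 3 F q) (ρ : F ≃+* F)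
    {r : F} (hr : c0 hF * (r * r ^ q) = ρ (c0 hF)) {v : Fin 3 → F} (hv : hermForm 3 F q v v = 0) :
    semiConj A ρ (T hF v) = T hF (r • (gm A *ᵥ fun i => ρ (v i))) := by
  have hw : hermForm 3 F q (gm A *ᵥ fun i => ρ (v i)) (gm A *ᵥ fun i => ρ (v i)) = 0 := by
    rw [herm_semi, hv, map_zero]
  apply ext_act
  intro x
  have hx : x = gm A *ᵥ fun i => ρ ((fun j => ρ.symm ((gm A⁻¹ *ᵥ x) j)) i) := by
    have : (fun i => ρ ((fun j => ρ.symm ((gm A⁻¹ *ᵥ x) j)) i)) = gm A⁻¹ *ᵥ x := by
      funext i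
      simp
    rw [this, gm_mulVec_inv]
  rw [hx]
  generalize (fun j => ρ.symm ((gm A⁻¹ *ᵥ x) j)) = y
  rw [act_semiConj, act_T hF hv, act_T_smul hF hw, herm_semi, hr, ← map_mul,
    show (fun i => ρ ((y + (c0 hF * hermForm 3 F q y v) • v) i)) =
      (fun i => ρ (y i)) + ρ (c0 hF * hermForm 3 F q y v) • (fun i => ρ (v i)) by
      funext i
      simp [map_add, map_mul, Pi.add_apply, Pi.smul_apply, smul_eq_mul],
    mulVec_add, mulVec_smul]

omit [Fintype F] [DecidableEq F] in
theorem semi_ne (A : Cfsg.GU 3 F q) (ρ : F ≃+* F) {v : Fin 3 → F} (hv : v ≠ 0) :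
    (gm A *ᵥ fun i => ρ (v i)) ≠ 0 := by
  intro h
  have h1 := congrArg (gm A⁻¹ *ᵥ ·) h
  simp only [gm_inv_mulVec, mulVec_zero] at h1
  apply hv
  funext i
  have := congrFun h1 i
  simpa using this

omit [DecidableEq F] in
theorem semiConj_isConj (hF : Fintype.card F = q ^ 2) (H : IsFrame q e f) (A : Cfsg.GU 3 F q) (ρ : F ≃+* F) :
    IsConj (T hF e) (semiConj A ρ (T hF e)) := by
  obtain ⟨r, hr0, hr⟩ := Cfsg.Agent.ClassicalGeometry.PSUAutCount.exists_r hF ρ
  rw [semiConj_T hF A ρ hr H.ee]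
  apply T_isConj hF H
  · rw [herm_smul_left, herm_smul_right, herm_semi, H.ee, map_zero, mul_zero, mul_zero]
  · exact smul_ne_zero hr0 (semi_ne A ρ (e_ne H))

omit [Fintype F] [DecidableEq F] in
theorem semi_inj (A : Cfsg.GU 3 F q) (ρ : F ≃+* F) {v w : Fin 3 → F}
    (h : (gm A *ᵥ fun i => ρ (v i)) = gm A *ᵥ fun i => ρ (w i)) : v = w := by
  have h1 := congrArg (gm A⁻¹ *ᵥ ·) h
  simp only [gm_inv_mulVec] at h1
  funext i
  exact ρ.injective (congrFun h1 i)

omit [Fintype F] [DecidableEq F] in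
theorem semi_smul (A : Cfsg.GU 3 F q) (ρ : F ≃+* F) (a : F) (v : Fin 3 → F) :
    (gm A *ᵥ fun i => ρ ((a • v) i)) = ρ a • (gm A *ᵥ fun i => ρ (v i)) := by
  rw [← mulVec_smul]
  congr 1
  funext i
  simp [Pi.smul_apply, smul_eq_mul]

/-- The induced character is invariant. -/
theorem psi_semi (hF : Fintype.card F = q ^ 2) (H : IsFrame q e f) (A : Cfsg.GU 3 F q) (ρ : F ≃+* F)
    [Fintype (SU 3 F q)] (g : SU 3 F q) : Data.psi (theta H) (semiConj A ρ g) = Data.psi (theta H) g := by
  obtain ⟨k, hk⟩ := exists_map hF (e_ne H) (semi_ne A ρ (e_ne H)) H.ee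
    (by rw [herm_semi, H.ee, map_zero])
  have hk' : act k⁻¹ (gm A *ᵥ fun i => ρ (e i)) = e := by rw [← hk, act_inv_act]
  -- the key
  have hkey : ∀ (m : SU 3 F q) (a : F), act m e = a • e ↔ act (k⁻¹ * semiConj A ρ m * k) e = ρ a • e := by
    intro m a
    rw [act_mul, act_mul, hk, act_semiConj]
    constructor
    · intro h
      rw [h, semi_smul, act_smul, hk']
    · intro h
      have h1 := congrArg (act k) h
      rw [act_act_inv, act_smul, hk, ← semi_smul] at h1
      exact semi_inj A ρ h1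
  have hext : ∀ m : SU 3 F q, extendByZero (lineStab (rho F q) e) (fun t => (theta H t : ℂ)) (k⁻¹ * semiConj A ρ m * k) =
      extendByZero (lineStab (rho F q) e) (fun t => (theta H t : ℂ)) m := by
    intro m
    by_cases hm : m ∈ lineStab (rho F q) e
    · obtain ⟨a, ha⟩ := id hm
      rw [rho_mulVec] at ha
      have h1 := (hkey m a).1 ha
      have h3 : act (k⁻¹ * semiConj A ρ m * k) e = ((Units.map (ρ : F →* F) a : Fˣ) : F) • e := h1
      have hm' : k⁻¹ * semiConj A ρ m * k ∈ lineStab (rho F q) e := ⟨_, h3⟩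
      rw [Cfsg.Agent.OddOrderCharacters.Clifford.ext_apply_mem _ _ _ hm,
        Cfsg.Agent.OddOrderCharacters.Clifford.ext_apply_mem _ _ _ hm',
        theta_eq H (g := ⟨_, hm⟩) ha, theta_eq H (g := ⟨_, hm'⟩) h3, qc_map ρ a _ rfl]
    · have hm' : k⁻¹ * semiConj A ρ m * k ∉ lineStab (rho F q) e := by
        rintro ⟨b, hb⟩
        rw [rho_mulVec] at hb
        apply hm
        have h1 : act m e = (ρ.symm b) • e := (hkey m _).2 (by rw [hb]; simp)
        have hb0 : ρ.symm (b : F) ≠ 0 := by simp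
        exact ⟨Units.mk0 _ hb0, h1⟩
      rw [Cfsg.Agent.OddOrderCharacters.Clifford.ext_apply_not_mem _ _ _ hm,
        Cfsg.Agent.OddOrderCharacters.Clifford.ext_apply_not_mem _ _ _ hm']
  unfold Data.psi
  rw [Cfsg.Agent.Characters.Core.indFun_apply, Cfsg.Agent.Characters.Core.indFun_apply]
  congr 1
  symm
  refine Fintype.sum_equiv ((semiConj A ρ).toEquiv.trans (Equiv.mulRight k)) _ _ fun y => ?_
  rw [← hext]
  congr 1
  change k⁻¹ * semiConj A ρ (y⁻¹ * g * y) * k = (semiConj A ρ y * k)⁻¹ * semiConj A ρ g * (semiConj A ρ y * k)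
  rw [map_mul, map_mul, map_inv]
  group

omit [DecidableEq F] in
/-- The conjugates of the unipotent radical generate `SU₃(q)`. -/
theorem normalClosure_eq (hF : Fintype.card F = q ^ 2) (H : IsFrame q e f) :
    Subgroup.normalClosure ((siegG hF e H.ee : Subgroup (SU 3 F q)) : Set (SU 3 F q)) = ⊤ := by
  rw [eq_top_iff, ← siegelGroup_eq_top hF le_rfl]
  unfold siegelGroup
  rw [Subgroup.closure_le]
  rintro _ ⟨u, w, μ, h, rfl⟩
  by_cases hu : u = 0
  · subst hu
    have : siegel hF (0 : Fin 3 → F) w μ h = 1 := by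
      apply ext_act
      intro v
      rw [act_siegel, herm_zero_right hF, act_one]
      simp
    rw [this]
    exact Subgroup.one_mem _
  · obtain ⟨x, hx⟩ := exists_map hF hu (e_ne H) h.iso H.ee
    have h1 : x * siegel hF u w μ h * x⁻¹ ∈ siegG hF e H.ee := by
      rw [conj_siegel hF h x]
      subst hx
      exact ⟨_, _, _, rfl⟩
    have h2 := (Subgroup.normalClosure_normal (s := ((siegG hF e H.ee : Subgroup (SU 3 F q)) : Set (SU 3 F q)))).conj_mem _
      (Subgroup.subset_normalClosure h1) x⁻¹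
    have h3 : x⁻¹ * (x * siegel hF u w μ h * x⁻¹) * x⁻¹⁻¹ = siegel hF u w μ h := by group
    rwa [h3] at h2

omit [DecidableEq F] in
theorem center_cube (hF : Fintype.card F = q ^ 2) {z : SU 3 F q} (hz : z ∈ Subgroup.center (SU 3 F q)) : z ^ 3 = 1 := by
  obtain ⟨c, hcn, hcq, rfl⟩ := (mem_center_SU_iff hF le_rfl z).1 hz
  apply ext_act
  intro v
  rw [pow_succ, pow_succ, pow_one, act_mul, act_mul, act_suScalar, act_suScalar, act_suScalar, act_one, smul_smul, smul_smul]
  have : c * c * c = 1 := by rw [← hcn]; ring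
  rw [this, one_smul]

omit [DecidableEq F] in
/-- The center is in the kernel of a real irreducible character. -/
theorem center_ker (hF : Fintype.card F = q ^ 2) [Fintype (SU 3 F q)] {χ : SU 3 F q → ℂ}
    (hχ : IsIrrCharacter (SU 3 F q) χ) (hr : ∀ g, conj (χ g) = χ g) {z : SU 3 F q}
    (hz : z ∈ Subgroup.center (SU 3 F q)) (g : SU 3 F q) : χ (z * g) = χ g := by
  obtain ⟨w, -, hw⟩ := CharDeep.DegreeBound.exists_omega hχ hz
  obtain ⟨d, hd, hd1⟩ := isIrr_apply_one hχ
  have hd0 : (d : ℂ) ≠ 0 := by exact_mod_cast hd.ne'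
  have h3 := center_cube hF hz
  have hw3 : w ^ 3 = 1 := by
    have h4 := hw 1
    have h5 := hw z
    have h6 := hw (z * z)
    rw [one_mul] at h4
    have h7 : z * z * z = 1 := by rw [← h3, pow_succ, pow_two]
    rw [h7, h5, h4, hd1] at h6
    have h8 : (w ^ 3 - 1) * (d : ℂ) = 0 := by linear_combination - h6
    exact sub_eq_zero.1 ((mul_eq_zero.1 h8).resolve_right hd0)
  have hwr : conj w = w := by
    have h4 := hr z
    have h5 := hw 1
    rw [one_mul, hd1] at h5
    rw [h5, map_mul, Complex.conj_natCast] at h4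
    exact mul_right_cancel₀ hd0 h4
  obtain ⟨r, hr'⟩ := Complex.conj_eq_iff_real.1 hwr
  have hr3 : r ^ 3 = 1 := by
    rw [hr'] at hw3
    exact_mod_cast hw3
  have hr1 : r = 1 := by nlinarith [sq_nonneg (r + 1), sq_nonneg r, sq_nonneg (r - 1)]
  have hcomm : z * g = g * z := (Subgroup.mem_center_iff.1 hz g).symm
  rw [hcomm, hw, hr', hr1]
  simp

end Geo

/-- **`PSU₃(q)`, `q` odd, has a real irreducible character of odd degree, different from `1` and `q³`, invariant under
all automorphisms.** -/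
theorem exists_inv_psu3 {F : Type} [Field F] [Fintype F] {q : ℕ} (hF : Fintype.card F = q ^ 2) (h2 : (2 : F) ≠ 0) :
    ∃ χ : Cfsg.PSU 3 F q → ℂ, Cfsg.Agent.H601.OddDeg.Inv χ ∧ χ 1 ≠ 1 ∧ χ 1 ≠ (q : ℂ) ^ 3 := by
  classical
  have : Fintype (SU 3 F q) := Fintype.ofFinite _
  obtain ⟨e, f, H⟩ := exists_frame (F := F) (q := q) (n := 3) hF (by norm_num)
  have D := data hF h2 H
  obtain ⟨χ₁, χ₂, h1, h2', hne, hψ⟩ := Cfsg.Agent.H113.NormTwoChar.exists_add_of_norm_two
    (Data.psi_char (theta H)) D.psi_norm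
  have hψ' : Data.psi (theta H) = χ₂ + χ₁ := by rw [hψ, add_comm]
  have hz := T_mem hF H
  have hz1 := T_ne hF H
  have hr1 := D.real_of h1 h2' hψ hz hz1 (T_inv hF H)
  have hr2 := D.real_of h2' h1 hψ' hz hz1 (T_inv hF H)
  have hd1 := D.one_lt h1 h2' hψ hr1 (normalClosure_eq hF H)
  have hd2 := D.one_lt h2' h1 hψ' hr2 (normalClosure_eq hF H)
  have hsum : χ₁ 1 + χ₂ 1 = (q : ℂ) ^ 3 + 1 := by
    have := D.psi_one
    rw [hψ, Pi.add_apply, card_U hF H] at this
    rw [this]; push_cast; rfl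
  obtain ⟨χ, hχ⟩ := Cfsg.Agent.H706.GlaubQuot.exists_deflate
    (Subgroup.center (SU 3 F q)) h1 (fun n hn g => center_ker hF h1 hr1 hn g)
  have hval : ∀ g : SU 3 F q, (χ : PSU 3 F q → ℂ) (QuotientGroup.mk g) = χ₁ g := fun g =>
    (congrFun hχ g).symm
  have hone : (χ : PSU 3 F q → ℂ) 1 = χ₁ 1 := by rw [← hval]; rfl
  refine ⟨χ, ⟨χ.2, ?_, ?_, ?_⟩, ?_, ?_⟩
  · intro x
    induction x using QuotientGroup.induction_on with
    | H g =>
      rw [hval]
      exact Complex.conj_eq_iff_im.1 (hr1 g)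
  · obtain ⟨d, hd, hd1'⟩ := isIrr_apply_one h1
    have h3 : charDegree (χ : PSU 3 F q → ℂ) = d := by
      apply Cfsg.Agent.Blocks.Basic.charDegree_of_eq
      rw [hone, hd1']
    rw [h3]
    exact D.odd_of h1 h2' hψ hr1 hd1'
  · intro φ x
    obtain ⟨A, ρ, rfl⟩ : ∃ (A : GU 3 F q) (ρ : F ≃+* F), φ = toAut A ρ := by
      apply Cfsg.Agent.ClassicalGeometry.PSUAutMain.exists_toAut hF le_rfl
      rintro ⟨-, rfl⟩
      have := odd_q hF h2
      exact absurd this (by decide)
    induction x using QuotientGroup.induction_on with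
    | H g =>
      have h3 : toAut A ρ (QuotientGroup.mk g : PSU 3 F q) = (QuotientGroup.mk (semiConj A ρ g) : PSU 3 F q) := rfl
      rw [h3, hval, hval]
      exact D.aut_of h1 h2' hψ hz hz1 (semiConj A ρ) (fun g => psi_semi hF H A ρ g) (semiConj_isConj hF H A ρ) g
  · rw [hone]; exact hd1
  · rw [hone]
    intro h3
    apply hd2
    rw [h3] at hsum
    linear_combination hsum

end Cfsg.Agent.H618.InvPSU3
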